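import Cfsg.Agent.Lib.Quadratic.Pair
import Cfsg.Agent.Lib.Involutions.BaerSuzuki
import Cfsg.Prelude.Def_LocalEven
import Mathlib.Algebra.Module.ZMod
import Mathlib.LinearAlgebra.Matrix.ToLin
import Mathlib.LinearAlgebra.FreeModule.Finite.Basic

/-!
Quadratic action on an elementary abelian `p`-group, `p` odd: a faithful quadratic element outside
`O_p` gives a section isomorphic to `SL(2,p)`.
-/

namespace Cfsg.Agent.Lib.Quadratic

open scoped commutatorElement
open Matrix

variable {G : Type*} [Group G] {p : ℕ}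

/-- `a` acts quadratically on `V`. -/
def Quad (V : Subgroup G) (a : G) : Prop := ∀ v ∈ V, ⁅⁅v, a⁆, a⁆ = 1

theorem quad_of_commutator_eq_bot {V : Subgroup G} {a : G}
    (h : ⁅⁅V, Subgroup.zpowers a⁆, Subgroup.zpowers a⁆ = ⊥) : Quad V a := by
  intro v hv
  have := Subgroup.commutator_mem_commutator
    (Subgroup.commutator_mem_commutator hv (Subgroup.mem_zpowers a)) (Subgroup.mem_zpowers a)
  rwa [h, Subgroup.mem_bot] at this

theorem exists_matrix {A : Type*} [CommGroup A] [Finite A] [Fact p.Prime]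
    (hA : ∀ x : A, x ^ p = 1) {Γ : Type*} [Group Γ] (α : Γ →* MulAut A) :
    ∃ (n : ℕ) (ρ : Γ →* Matrix (Fin n) (Fin n) (ZMod p)),
      (∀ h, ρ h = 1 ↔ α h = 1) ∧
      (∀ h, (∀ x, α h (α h x / x) = α h x / x) → (ρ h - 1) * (ρ h - 1) = 0) ∧
      ∃ E : Multiplicative (Fin n → ZMod p) →* A, Function.Injective E ∧
        ∀ h v, α h (E (Multiplicative.ofAdd v)) = E (Multiplicative.ofAdd (ρ h *ᵥ v)) := by
  haveI : Module (ZMod p) (Additive A) :=
    AddCommGroup.zmodModule fun x => Additive.toMul.injective (by simpa using hA x.toMul)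
  haveI : Module.Finite (ZMod p) (Additive A) := Module.Finite.of_finite
  let T : Γ →* Module.End (ZMod p) (Additive A) :=
    { toFun := fun h =>
        { toFun := fun x => Additive.ofMul (α h x.toMul)
          map_add' := fun x y => by simp
          map_smul' := fun c x => ZMod.map_smul (MonoidHom.toAdditive (α h).toMonoidHom) c x }
      map_one' := LinearMap.ext fun x => by simp
      map_mul' := fun g h => LinearMap.ext fun x => by simp; rfl }
  have happ : ∀ (h : Γ) (x : Additive A), T h x = Additive.ofMul (α h x.toMul) := fun h x => rfl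
  let bas := Module.finBasis (ZMod p) (Additive A)
  let E := LinearMap.toMatrixAlgEquiv bas
  let cmap : Multiplicative (Fin (Module.finrank (ZMod p) (Additive A)) → ZMod p) →* A :=
    MonoidHom.mk' (fun v => (bas.equivFun.symm (Multiplicative.toAdd v)).toMul)
      fun v w => by rw [toAdd_mul, map_add]; rfl
  refine ⟨_, E.toMonoidHom.comp T, fun h => ?_, fun h hq => ?_, cmap, ?_, fun h v => ?_⟩
  rotate_left 2
  · exact fun v w hvw => Multiplicative.toAdd.injective
      (bas.equivFun.symm.injective (Additive.toMul.injective hvw))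
  · show α h (bas.equivFun.symm v).toMul = (bas.equivFun.symm (E (T h) *ᵥ v)).toMul
    have key : E (T h) *ᵥ v = bas.equivFun (T h (bas.equivFun.symm v)) := by
      have hk := LinearMap.toMatrix_mulVec_repr bas bas (T h) (bas.equivFun.symm v)
      simp only [← Module.Basis.equivFun_apply, LinearEquiv.apply_symm_apply] at hk
      exact hk
    rw [key, LinearEquiv.symm_apply_apply, happ]
    rfl
  · show E (T h) = 1 ↔ _
    rw [← map_one E, E.injective.eq_iff]
    constructor
    · intro hh
      ext x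
      have := happ h (Additive.ofMul x)
      rw [hh] at this
      simpa using (congrArg Additive.toMul this).symm
    · intro hh
      refine LinearMap.ext fun x => ?_
      rw [happ, hh]
      simp
  · show (E (T h) - 1) * (E (T h) - 1) = 0
    rw [← map_one E, ← map_sub, ← map_mul, ← map_zero E]
    congr 1
    refine LinearMap.ext fun x => ?_
    have hxx : (T h - 1) x = Additive.ofMul (α h x.toMul / x.toMul) := by
      rw [LinearMap.sub_apply, happ, Module.End.one_apply]
      simp
    rw [Module.End.mul_apply, hxx, LinearMap.zero_apply, LinearMap.sub_apply, happ,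
      Module.End.one_apply, toMul_ofMul, hq, sub_self]

/-- A subgroup normalising an elementary abelian group acts on it by matrices. -/
theorem exists_rep [Finite G] [Fact p.Prime] {V H : Subgroup G}
    (hV : Cfsg.IsElementaryAbelian p V) (hHV : H ≤ Subgroup.normalizer (V : Set G)) :
    ∃ (n : ℕ) (ρ : H →* Matrix (Fin n) (Fin n) (ZMod p)),
      (∀ h : H, ρ h = 1 ↔ (h : G) ∈ Subgroup.centralizer (V : Set G)) ∧
      (∀ h : H, Quad V (h : G) → (ρ h - 1) * (ρ h - 1) = 0) ∧
      ∃ E : Multiplicative (Fin n → ZMod p) →* G, Function.Injective E ∧ E.range ≤ V ∧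
        ∀ (h : H) v, (h : G) * E (Multiplicative.ofAdd v) * (h : G)⁻¹ =
          E (Multiplicative.ofAdd (ρ h *ᵥ v)) := by
  letI : CommGroup V := { (inferInstance : Group V) with mul_comm := hV.1.1.comm }
  let c : H →* MulAut V :=
    { toFun := fun h =>
        { toFun := fun x => ⟨(h : G) * x * (h : G)⁻¹,
            (Subgroup.mem_normalizer_iff.1 (hHV h.2) _).1 x.2⟩
          invFun := fun x => ⟨(h : G)⁻¹ * x * (h : G),
            (Subgroup.mem_normalizer_iff''.1 (hHV h.2) _).1 x.2⟩
          left_inv := fun x => Subtype.ext (by simp [mul_assoc])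
          right_inv := fun x => Subtype.ext (by simp [mul_assoc])
          map_mul' := fun x y => Subtype.ext (by simp [mul_assoc]) }
      map_one' := MulEquiv.ext fun x => Subtype.ext (by simp)
      map_mul' := fun g h => MulEquiv.ext fun x => Subtype.ext (by simp [mul_assoc]) }
  have hc : ∀ (h : H) (x : V), ((c h x : V) : G) = (h : G) * x * (h : G)⁻¹ := fun h x => rfl
  obtain ⟨n, ρ, h1, h2, E, hE, hEact⟩ :=
    exists_matrix (A := V) (fun x => Subtype.ext (hV.2 _ x.2)) c
  refine ⟨n, ρ, fun h => (h1 h).trans ?_, fun h hq => h2 h fun x => ?_,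
    V.subtype.comp E, V.subtype_injective.comp hE, ?_,
    fun h v => (congrArg Subtype.val (hEact h v))⟩
  rotate_left 2
  · rintro _ ⟨v, rfl⟩
    exact (E v).2
  · rw [Subgroup.mem_centralizer_iff]
    constructor
    · intro hh v hv
      have := hc h ⟨v, hv⟩
      rw [hh] at this
      exact (mul_inv_eq_iff_eq_mul.1 this.symm).symm
    · intro hh
      exact MulEquiv.ext fun x => Subtype.ext (by
        rw [hc]; simp [← hh _ x.2, mul_assoc])
  · apply Subtype.ext
    have hy : ((c h x / x : V) : G) = ⁅(x : G), (h : G)⁆⁻¹ := by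
      show (c h x : G) / (x : G) = _
      rw [hc, div_eq_mul_inv, commutatorElement_inv, commutatorElement_def]
    rw [hc, hy, mul_inv_eq_iff_eq_mul]
    have hcc := hq _ x.2
    rw [commutatorElement_eq_one_iff_mul_comm] at hcc
    exact ((Commute.inv_left (show Commute ⁅(x : G), (h : G)⁆ (h : G) from hcc)).eq).symm

/-- A surjection from a subgroup as a section. -/
theorem exists_section_of_surjective {H : Subgroup G} {K : Subgroup H} {S : Type*} [Group S]
    (f : K →* S) (hf : Function.Surjective f) :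
    ∃ (K' L : Subgroup G) (_ : (L.subgroupOf K').Normal), K' ≤ H ∧
      Nonempty ((K' ⧸ L.subgroupOf K') ≃* S) := by
  let e : K.map H.subtype ≃* K := (K.equivMapOfInjective H.subtype H.subtype_injective).symm
  let g : K.map H.subtype →* S := f.comp e.toMonoidHom
  have hg : Function.Surjective g := hf.comp e.surjective
  have hn : ((g.ker.map (K.map H.subtype).subtype).subgroupOf (K.map H.subtype)).Normal := by
    rw [Subgroup.subgroupOf, Subgroup.comap_map_eq_self_of_injective (Subgroup.subtype_injective _)]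
    infer_instance
  refine ⟨K.map H.subtype, g.ker.map (K.map H.subtype).subtype, hn, Subgroup.map_subtype_le K, ?_⟩
  · refine ⟨(QuotientGroup.quotientMulEquivOfEq ?_).trans
      (QuotientGroup.quotientKerEquivOfSurjective g hg)⟩
    rw [Subgroup.subgroupOf, Subgroup.comap_map_eq_self_of_injective (Subgroup.subtype_injective _)]

variable [Finite G] [Fact p.Prime]

/-- A quadratic element of a faithful group has order dividing `p`. -/
theorem pow_char_eq_one {V H : Subgroup G} (hV : Cfsg.IsElementaryAbelian p V)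
    (hHV : H ≤ Subgroup.normalizer (V : Set G))
    (hf : H ⊓ Subgroup.centralizer (V : Set G) = ⊥) {x : G} (hx : x ∈ H) (hq : Quad V x) :
    x ^ p = 1 := by
  obtain ⟨n, ρ, hker, hquad, -⟩ := exists_rep hV hHV
  have h0 := hquad ⟨x, hx⟩ hq
  have h1 : ρ (⟨x, hx⟩ ^ p) = 1 := by
    rcases Nat.eq_zero_or_pos n with rfl | hn
    · exact Subsingleton.elim _ _
    · have : Nonempty (Fin n) := ⟨⟨0, hn⟩⟩
      have h := sub_pow_char_of_commute (p := p) (Commute.one_right (ρ ⟨x, hx⟩))
      obtain ⟨j, hj⟩ := Nat.exists_eq_add_of_le (Fact.out : p.Prime).two_le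
      have hz : (ρ ⟨x, hx⟩ - 1) ^ p = 0 := pow_eq_zero_of_le (by omega) ((sq _).trans h0)
      rw [one_pow, hz] at h
      rw [map_pow]
      exact sub_eq_zero.1 h.symm
  have h2 : x ^ p ∈ H ⊓ Subgroup.centralizer (V : Set G) :=
    ⟨H.pow_mem hx p, by simpa using (hker _).1 h1⟩
  rwa [hf, Subgroup.mem_bot] at h2

/-- Two quadratic elements generating a group that is not a `p`-group. -/
theorem exists_section_of_pair (hp : p ≠ 2) {V H : Subgroup G}
    (hV : Cfsg.IsElementaryAbelian p V) (hHV : H ≤ Subgroup.normalizer (V : Set G))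
    (hf : H ⊓ Subgroup.centralizer (V : Set G) = ⊥) {a b : G}
    (hab : H = Subgroup.closure {a, b}) (ha : Quad V a) (hb : Quad V b) (hnp : ¬ IsPGroup p H) :
    ∃ (K L : Subgroup G) (_ : (L.subgroupOf K).Normal), K ≤ H ∧
      Nonempty ((K ⧸ L.subgroupOf K) ≃* Matrix.SpecialLinearGroup (Fin 2) (ZMod p)) := by
  obtain ⟨n, ρ, hker, hquad, -⟩ := exists_rep hV hHV
  have hinj : Function.Injective ρ := by
    intro x y h
    have h1 : ρ (x⁻¹ * y) = 1 := by rw [map_mul, ← h, ← map_mul, inv_mul_cancel, map_one]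
    have h2 : ((x⁻¹ * y : H) : G) ∈ H ⊓ Subgroup.centralizer (V : Set G) :=
      ⟨(x⁻¹ * y).2, (hker _).1 h1⟩
    rw [hf, Subgroup.mem_bot] at h2
    exact inv_mul_eq_one.1 (Subtype.ext h2)
  have hn : Nonempty (Fin n) := by
    rcases Nat.eq_zero_or_pos n with rfl | hn
    · exfalso
      have : Subsingleton H := hinj.subsingleton
      exact hnp fun g => ⟨0, Subsingleton.elim _ _⟩
    · exact ⟨⟨0, hn⟩⟩
  have haH : a ∈ H := hab ▸ Subgroup.subset_closure (Or.inl rfl)
  have hbH : b ∈ H := hab ▸ Subgroup.subset_closure (Or.inr rfl)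
  have hgen : Subgroup.closure ({⟨a, haH⟩, ⟨b, hbH⟩} : Set H) = ⊤ := by
    apply Subgroup.map_injective H.subtype_injective
    rw [MonoidHom.map_closure, Set.image_pair, ← MonoidHom.range_eq_map, Subgroup.range_subtype]
    exact hab.symm
  obtain ⟨K, f, hfs⟩ := exists_surjection hp ρ hinj hgen (hquad _ ha) (hquad _ hb) hnp
  exact exists_section_of_surjective f hfs

/-- A faithful quadratic element outside the `p`-core gives a section `SL(2,p)`. -/
theorem exists_section_of_notMem_pCore (hp : p ≠ 2) {V H : Subgroup G}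
    (hV : Cfsg.IsElementaryAbelian p V) (hHV : H ≤ Subgroup.normalizer (V : Set G))
    (hf : H ⊓ Subgroup.centralizer (V : Set G) = ⊥) {x : G} (hxH : x ∈ H) (hq : Quad V x)
    (hna : (⟨x, hxH⟩ : H) ∉ Cfsg.pCore p H) :
    ∃ (K L : Subgroup G) (_ : (L.subgroupOf K).Normal), K ≤ H ∧
      Nonempty ((K ⧸ L.subgroupOf K) ≃* Matrix.SpecialLinearGroup (Fin 2) (ZMod p)) := by
  have hxp : IsPGroup p (Subgroup.zpowers (⟨x, hxH⟩ : H)) := by
    refine IsPGroup.of_card_dvd_pow (n := 1) ?_
    rw [Nat.card_zpowers, pow_one]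
    exact orderOf_dvd_of_pow_eq_one (Subtype.ext (by simpa using pow_char_eq_one hV hHV hf hxH hq))
  obtain ⟨g, hg⟩ : ∃ g : H, ¬ IsPGroup p
      (Subgroup.closure ({⟨x, hxH⟩, g * ⟨x, hxH⟩ * g⁻¹} : Set H)) := by
    by_contra hall
    push Not at hall
    obtain ⟨N, hN, hNp, hxN⟩ := Cfsg.Agent.Lib.Involutions.BaerSuzuki.baer_suzuki_elem hxp hall
    exact hna ((le_sSup (show N ∈ {M : Subgroup H | M.Normal ∧ IsPGroup p M} from ⟨hN, hNp⟩)) hxN)
  set W : Subgroup G := Subgroup.closure {x, (g : G) * x * (g : G)⁻¹} with hW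
  have hWmap : (Subgroup.closure ({⟨x, hxH⟩, g * ⟨x, hxH⟩ * g⁻¹} : Set H)).map H.subtype = W := by
    rw [MonoidHom.map_closure, Set.image_pair]; rfl
  have hWH : W ≤ H := hWmap ▸ Subgroup.map_subtype_le _
  have hy : Quad V ((g : G) * x * (g : G)⁻¹) := by
    intro v hv
    have hv' : (g : G)⁻¹ * v * (g : G) ∈ V :=
      (Subgroup.mem_normalizer_iff''.1 (hHV g.2) v).1 hv
    have := congrArg (fun z => (g : G) * z * (g : G)⁻¹) (hq _ hv')
    simp only [commutatorElement_def, _root_.mul_inv_rev, inv_inv, mul_one, mul_inv_cancel] at this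
    rw [← this]
    simp only [commutatorElement_def, _root_.mul_inv_rev, inv_inv]
    group
  obtain ⟨K, L, hL, hKW, hiso⟩ := exists_section_of_pair hp hV (hWH.trans hHV)
    (le_bot_iff.1 (hf ▸ inf_le_inf_right _ hWH)) hW hq hy fun h => hg (by
      refine h.of_injective ((Subgroup.equivMapOfInjective _ H.subtype
        H.subtype_injective).trans (MulEquiv.subgroupCongr hWmap)).toMonoidHom
        (MulEquiv.injective _))
  exact ⟨K, L, hL, hKW.trans hWH, hiso⟩

/-- Faithful quadratic element and trivial `p`-core: a section `SL(2,p)`. -/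
theorem exists_section_of_pCore_eq_bot (hp : p ≠ 2) {V H : Subgroup G}
    (hV : Cfsg.IsElementaryAbelian p V) (hHV : H ≤ Subgroup.normalizer (V : Set G))
    (hf : H ⊓ Subgroup.centralizer (V : Set G) = ⊥) (hO : Cfsg.pCore p H = ⊥) {x : G}
    (hxH : x ∈ H) (hx1 : x ≠ 1) (hq : Quad V x) :
    ∃ (K L : Subgroup G) (_ : (L.subgroupOf K).Normal), K ≤ H ∧
      Nonempty ((K ⧸ L.subgroupOf K) ≃* Matrix.SpecialLinearGroup (Fin 2) (ZMod p)) :=
  exists_section_of_notMem_pCore hp hV hHV hf hxH hq fun h => hx1 (by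
    rw [hO, Subgroup.mem_bot] at h
    exact congrArg Subtype.val h)

end Cfsg.Agent.Lib.Quadratic
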