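import Cfsg.Agent.Lib.Quadratic.Natural
import Cfsg.Prelude.Def_LocalEven
import Mathlib.LinearAlgebra.Matrix.Determinant.Basic
import Mathlib.GroupTheory.Sylow

/-!
A natural `SL(2,p)`-module inside a finite group, `p` odd, gives a section `Qd(p)`.
-/

namespace Cfsg.Agent.Lib.Quadratic

open Matrix

section Involves

variable {G : Type*} [Group G]

/-- A surjection from a subgroup gives an involvement. -/
theorem involves_of_surjective {S : Type*} [Group S] {K : Subgroup G} (f : K →* S)
    (hf : Function.Surjective f) : Cfsg.Involves S G := by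
  have hn : ((f.ker.map K.subtype).subgroupOf K).Normal := by
    rw [Subgroup.subgroupOf, Subgroup.comap_map_eq_self_of_injective K.subtype_injective]
    infer_instance
  refine ⟨K, f.ker.map K.subtype, hn, ⟨(QuotientGroup.quotientMulEquivOfEq ?_).trans
    (QuotientGroup.quotientKerEquivOfSurjective f hf)⟩⟩
  rw [Subgroup.subgroupOf, Subgroup.comap_map_eq_self_of_injective K.subtype_injective]

/-- An involvement is a surjection from a subgroup. -/
theorem exists_surjective_of_involves {S : Type*} [Group S] (h : Cfsg.Involves S G) :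
    ∃ (K : Subgroup G) (f : K →* S), Function.Surjective f := by
  obtain ⟨K, R, hn, ⟨e⟩⟩ := h
  exact ⟨K, e.toMonoidHom.comp (QuotientGroup.mk' (R.subgroupOf K)),
    e.surjective.comp (QuotientGroup.mk'_surjective _)⟩

/-- Involvement passes up from a subgroup. -/
theorem involves_of_subgroup {S : Type*} [Group S] {H : Subgroup G} (h : Cfsg.Involves S H) :
    Cfsg.Involves S G := by
  obtain ⟨K, f, hf⟩ := exists_surjective_of_involves h
  let e := (K.equivMapOfInjective H.subtype H.subtype_injective).symm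
  exact involves_of_surjective (f.comp e.toMonoidHom) (hf.comp e.surjective)

/-- Involvement passes up from a homomorphic image. -/
theorem involves_of_map {S G' : Type*} [Group S] [Group G'] (q : G →* G')
    (hq : Function.Surjective q) (h : Cfsg.Involves S G') : Cfsg.Involves S G := by
  obtain ⟨K, f, hf⟩ := exists_surjective_of_involves h
  let r : K.comap q →* K := (q.comp (K.comap q).subtype).codRestrict K fun x => x.2
  refine involves_of_surjective (f.comp r) (hf.comp ?_)
  rintro ⟨y, hy⟩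
  obtain ⟨x, rfl⟩ := hq y
  exact ⟨⟨x, hy⟩, rfl⟩

/-- Involvement is transitive. -/
theorem involves_trans {S T : Type*} [Group S] [Group T] (h : Cfsg.Involves S T)
    (h' : Cfsg.Involves T G) : Cfsg.Involves S G := by
  obtain ⟨K, f, hf⟩ := exists_surjective_of_involves h'
  exact involves_of_subgroup (involves_of_map f hf h)

end Involves

variable {p : ℕ}

/-- The affine matrix with linear part `A` and translation part `v`. -/
def affine (A : Matrix.SpecialLinearGroup (Fin 2) (ZMod p)) (v : Fin 2 → ZMod p) :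
    Matrix.SpecialLinearGroup (Fin 3) (ZMod p) :=
  ⟨!![A.1 0 0, A.1 0 1, v 0; A.1 1 0, A.1 1 1, v 1; 0, 0, 1], by
    have := A.2
    rw [Matrix.det_fin_two] at this
    rw [Matrix.det_fin_three]
    simp
    linear_combination this⟩

theorem coe_affine (A : Matrix.SpecialLinearGroup (Fin 2) (ZMod p)) (v : Fin 2 → ZMod p) :
    (affine A v).1 = !![A.1 0 0, A.1 0 1, v 0; A.1 1 0, A.1 1 1, v 1; 0, 0, 1] := rfl

theorem affine_mul (A B : Matrix.SpecialLinearGroup (Fin 2) (ZMod p)) (v w : Fin 2 → ZMod p) :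
    affine A v * affine B w = affine (A * B) (v + A.1 *ᵥ w) := by
  apply Subtype.ext
  rw [Matrix.SpecialLinearGroup.coe_mul, coe_affine, coe_affine, coe_affine]
  ext i j
  fin_cases i <;> fin_cases j <;>
    simp [Matrix.mul_apply, Matrix.mulVec, dotProduct, Fin.sum_univ_three, Fin.sum_univ_two]
      <;> ring

theorem affine_one : affine (1 : Matrix.SpecialLinearGroup (Fin 2) (ZMod p)) 0 = 1 := by
  apply Subtype.ext
  rw [coe_affine]
  ext i j
  fin_cases i <;> fin_cases j <;> simp

theorem affine_mem_qd (A : Matrix.SpecialLinearGroup (Fin 2) (ZMod p)) (v : Fin 2 → ZMod p) :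
    affine A v ∈ Cfsg.qd p :=
  Subgroup.subset_closure ⟨by simp [coe_affine], by simp [coe_affine], by simp [coe_affine]⟩

theorem exists_affine_of_last_row {M : Matrix.SpecialLinearGroup (Fin 3) (ZMod p)}
    (h0 : M.1 2 0 = 0) (h1 : M.1 2 1 = 0) (h2 : M.1 2 2 = 1) : ∃ A v, M = affine A v := by
  have hd := M.2
  rw [Matrix.det_fin_three, h0, h1, h2] at hd
  refine ⟨⟨!![M.1 0 0, M.1 0 1; M.1 1 0, M.1 1 1], by
    rw [Matrix.det_fin_two_of]; linear_combination hd⟩, ![M.1 0 2, M.1 1 2], ?_⟩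
  apply Subtype.ext
  refine Eq.trans ?_ (coe_affine _ _).symm
  ext i j
  fin_cases i <;> fin_cases j <;> simp [h0, h1, h2]

variable [Fact p.Prime] {G : Type*} [Group G] [Finite G]

/-- A natural `SL(2,p)`-module inside a group gives a section `Qd(p)`. -/
theorem involves_qd_of_natural (hp : p ≠ 2) (e : Multiplicative (Fin 2 → ZMod p) →* G)
    (he : Function.Injective e) (K : Subgroup G)
    (σ : K →* Matrix.SpecialLinearGroup (Fin 2) (ZMod p)) (hσ : Function.Surjective σ)
    (hact : ∀ (k : K) (v : Fin 2 → ZMod p), (k : G) * e (Multiplicative.ofAdd v) * (k : G)⁻¹ =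
      e (Multiplicative.ofAdd ((σ k).1 *ᵥ v))) :
    Cfsg.Involves ↥(Cfsg.qd p) G := by
  classical
  have h2p : (2 : ZMod p) ≠ 0 := Dickson.two_ne_zero_char hp
  set E : (Fin 2 → ZMod p) → G := fun v => e (Multiplicative.ofAdd v) with hE
  have hEinj : ∀ {v w}, E v = E w → v = w := fun h => Multiplicative.ofAdd.injective (he h)
  have hEadd : ∀ v w, E (v + w) = E v * E w := fun v w => by simp [hE]
  have hE0 : E 0 = 1 := by simp [hE]
  -- the preimage of `{1, -1}`
  let Z : Subgroup (Matrix.SpecialLinearGroup (Fin 2) (ZMod p)) :=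
    Subgroup.zpowers Dickson.negI
  have hZn : Z.Normal := by
    refine ⟨fun z hz g => ?_⟩
    obtain ⟨n, rfl⟩ := Subgroup.mem_zpowers_iff.1 hz
    rw [← (Commute.zpow_left (show Commute Dickson.negI g from Dickson.negI_comm g) n).eq,
      mul_inv_cancel_right]
    exact hz
  set D : Subgroup K := Z.comap σ with hD
  haveI : D.Normal := hZn.comap σ
  obtain ⟨T⟩ : Nonempty (Sylow 2 D) := inferInstance
  set T' : Subgroup K := (T : Subgroup D).map D.subtype with hT'
  have hT2 : IsPGroup 2 T' := T.2.map _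
  -- `T` contains an element acting as `-1`
  obtain ⟨z, hzT, hz⟩ : ∃ z ∈ T', σ z = Dickson.negI := by
    let τ : D →* Z := (σ.comp D.subtype).codRestrict Z fun x => x.2
    have hτ : Function.Surjective τ := by
      rintro ⟨y, hy⟩
      obtain ⟨k, rfl⟩ := hσ y
      exact ⟨⟨k, hy⟩, rfl⟩
    have hZ2 : IsPGroup 2 Z := by
      refine IsPGroup.of_card_dvd_pow (n := 1) ?_
      rw [Nat.card_zpowers, pow_one]
      exact orderOf_dvd_of_pow_eq_one (by rw [sq]; exact Dickson.negI_mul_self)
    have htop : ((T.mapSurjective hτ : Sylow 2 Z) : Subgroup Z) = ⊤ :=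
      ((T.mapSurjective hτ).3 (hZ2.to_subgroup ⊤) le_top).symm
    rw [Sylow.coe_mapSurjective] at htop
    obtain ⟨t, ht, htz⟩ : (⟨Dickson.negI, Subgroup.mem_zpowers _⟩ : Z) ∈
        (T : Subgroup D).map τ := htop ▸ Subgroup.mem_top _
    exact ⟨t, Subgroup.mem_map_of_mem D.subtype ht, congrArg Subtype.val htz⟩
  set N : Subgroup K := Subgroup.normalizer (T' : Set K) with hN
  have hfr : N ⊔ D = ⊤ := Sylow.normalizer_sup_eq_top T
  have hσN : ∀ A, ∃ y ∈ N, σ y = A := by
    intro A
    obtain ⟨k, rfl⟩ := hσ A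
    have hmap : (N ⊔ D).map σ ≤ N.map σ := by
      rw [Subgroup.map_sup]
      refine sup_le le_rfl ?_
      rintro _ ⟨d, hd, rfl⟩
      have hd' : σ d ∈ Z := hd
      obtain ⟨n, hn⟩ := Subgroup.mem_zpowers_iff.1 hd'
      rw [← hn, ← hz, ← map_zpow]
      exact Subgroup.mem_map_of_mem σ (N.zpow_mem (Subgroup.le_normalizer hzT) n)
    obtain ⟨y, hy, hy'⟩ := hmap (Subgroup.mem_map_of_mem σ (hfr ▸ Subgroup.mem_top k))
    exact ⟨y, hy, hy'⟩
  -- `U ∩ N = 1`
  have hint : ∀ (u : Fin 2 → ZMod p) (y : K), y ∈ N → E u = (y : G) → u = 0 := by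
    intro u y hy hu
    have hσy : σ y = 1 := by
      apply Subtype.ext
      apply Matrix.toLin'.injective
      refine LinearMap.ext fun v => ?_
      simp only [Matrix.toLin'_apply, Matrix.SpecialLinearGroup.coe_one, Matrix.one_mulVec]
      apply hEinj
      have h1 : (y : G) * E v * (y : G)⁻¹ = E v := by
        rw [← hu, ← hEadd, add_comm, hEadd, mul_inv_cancel_right]
      exact ((hact y v).symm.trans h1)
    set c : K := y * z * y⁻¹ * z⁻¹ with hc
    have hcT : c ∈ T' := by
      exact T'.mul_mem ((Subgroup.mem_normalizer_iff.1 hy z).1 hzT) (T'.inv_mem hzT)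
    have hcE : (c : G) = E (u + u) := by
      have h1 : (z : G) * E (-u) * (z : G)⁻¹ = E u := by
        refine (hact z (-u)).trans ?_
        rw [hz, Dickson.coe_negI, Matrix.neg_mulVec, Matrix.one_mulVec, neg_neg]
      have hneg : E (-u) = (E u)⁻¹ :=
        eq_inv_of_mul_eq_one_left (by rw [← hEadd, neg_add_cancel, hE0])
      rw [hEadd]
      nth_rewrite 2 [← h1]
      simp [hc, hneg, ← hu, mul_assoc]
    have hc2 : (u + u) = 0 := by
      by_contra hne
      obtain ⟨k, hk⟩ := hT2 ⟨c, hcT⟩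
      have hk' : (c : G) ^ 2 ^ k = 1 := by
        simpa using congrArg (fun x : T' => ((x : K) : G)) hk
      have hpow : ∀ n : ℕ, (E (u + u)) ^ n = E (n • (u + u)) := by
        intro n
        induction n with
        | zero => simp [hE0]
        | succ n ih => rw [pow_succ, ih, succ_nsmul, ← hEadd]
      rw [hcE, hpow, ← hE0] at hk'
      have h5 := hEinj hk'
      rw [← Nat.cast_smul_eq_nsmul (ZMod p)] at h5
      rcases smul_eq_zero.1 h5 with h | h
      · rw [Nat.cast_pow, Nat.cast_ofNat] at h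
        exact h2p (pow_eq_zero_iff' |>.1 h).1
      · exact hne h
    rw [← two_smul (ZMod p) u] at hc2
    exact (smul_eq_zero.1 hc2).resolve_left h2p
  -- the semidirect product
  let M : Subgroup G :=
    { carrier := {x | ∃ u, ∃ y ∈ N, x = E u * (y : K)}
      one_mem' := ⟨0, 1, one_mem _, by simp [hE0]⟩
      mul_mem' := by
        rintro _ _ ⟨u, y, hy, rfl⟩ ⟨u', y', hy', rfl⟩
        refine ⟨u + (σ y).1 *ᵥ u', y * y', mul_mem hy hy', ?_⟩
        rw [hEadd, show E ((σ y).1 *ᵥ u') = (y : G) * E u' * (y : G)⁻¹ from (hact y u').symm]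
        simp [mul_assoc]
      inv_mem' := by
        rintro _ ⟨u, y, hy, rfl⟩
        refine ⟨(σ y⁻¹).1 *ᵥ (-u), y⁻¹, inv_mem hy, ?_⟩
        have hneg : E (-u) = (E u)⁻¹ :=
          eq_inv_of_mul_eq_one_left (by rw [← hEadd, neg_add_cancel, hE0])
        rw [show E ((σ y⁻¹).1 *ᵥ (-u)) = ((y⁻¹ : K) : G) * E (-u) * ((y⁻¹ : K) : G)⁻¹ from
          (hact y⁻¹ (-u)).symm, hneg]
        simp }
  have hM : ∀ x : M, ∃ A, ∃ u, ∃ y ∈ N, (x : G) = E u * (y : K) ∧ A = affine (σ y) u := by
    intro x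
    obtain ⟨u, y, hy, hxy⟩ := x.2
    exact ⟨_, u, y, hy, hxy, rfl⟩
  choose Φ u y hy hxy hΦ using hM
  have huniq : ∀ (x : M) (v : Fin 2 → ZMod p) (w : K), w ∈ N → (x : G) = E v * w →
      Φ x = affine (σ w) v := by
    intro x v w hw hxw
    rw [hΦ x]
    have h2 : E (-v + u x) = ((w * (y x)⁻¹ : K) : G) := by
      have h3 : E v * (w : G) = E (u x) * (y x : G) := by rw [← hxw, hxy x]
      rw [hEadd, show E (-v) = (E v)⁻¹ from
        eq_inv_of_mul_eq_one_left (by rw [← hEadd, neg_add_cancel, hE0]),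
        show ((w * (y x)⁻¹ : K) : G) = (w : G) * (y x : G)⁻¹ from rfl,
        eq_mul_inv_iff_mul_eq, mul_assoc, ← h3, inv_mul_cancel_left]
    have h4 := hint _ _ (mul_mem hw (inv_mem (hy x))) h2
    have hv : u x = v := by rwa [neg_add_eq_zero, eq_comm] at h4
    have hw' : y x = w := by
      apply Subtype.ext
      have := hxy x
      rw [hxw, hv] at this
      exact (mul_left_cancel this).symm
    rw [hv, hw']
  let f : M →* Cfsg.qd p := MonoidHom.mk' (fun x => ⟨Φ x, by rw [hΦ x]; exact affine_mem_qd _ _⟩) (by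
    intro a b
    apply Subtype.ext
    show Φ (a * b) = Φ a * Φ b
    rw [hΦ a, hΦ b, affine_mul, ← map_mul]
    refine huniq _ _ _ (mul_mem (hy a) (hy b)) ?_
    rw [hEadd, show E ((σ (y a)).1 *ᵥ u b) = (y a : G) * E (u b) * (y a : G)⁻¹ from
      (hact (y a) (u b)).symm, Subgroup.coe_mul, Subgroup.coe_mul, hxy a, hxy b]
    simp [mul_assoc])
  refine involves_of_surjective f ?_
  have hrange : Cfsg.qd p ≤ f.range.map (Cfsg.qd p).subtype := by
    unfold Cfsg.qd
    rw [Subgroup.closure_le]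
    rintro A ⟨h0, h1, h2⟩
    obtain ⟨B, v, rfl⟩ := exists_affine_of_last_row h0 h1 h2
    obtain ⟨w, hw, rfl⟩ := hσN B
    refine ⟨_, ⟨⟨E v * (w : G), v, w, hw, rfl⟩, rfl⟩, ?_⟩
    exact huniq _ v w hw rfl
  rintro ⟨A, hA⟩
  obtain ⟨_, ⟨x, rfl⟩, hx⟩ := hrange hA
  exact ⟨x, Subtype.ext hx⟩

end Cfsg.Agent.Lib.Quadratic
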