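import Cfsg.Agent.Lib.Quadratic.Involves
import Cfsg.Agent.Lib.Quadratic.QdSection
import Cfsg.Agent.Lib.Cores.Basic
import Cfsg.Prelude.Def_Local

/-!
`p` odd: a quadratic element outside `O_p` of an automiser gives a section `Qd(p)`; conversely
`Qd(p)` is not `p`-stable.
-/

namespace Cfsg.Agent.Lib.Quadratic

open scoped commutatorElement
open Matrix
open Cfsg.Agent.Lib.PLocal.SLTwo (up lo up_add lo_add up_zero lo_zero val_mul closure_pair_eq_top
  up_natCast lo_natCast)

universe u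

variable {p : ℕ}

/-- `g` lies in a normal subgroup whose elements have a `p`-power in `N`. -/
def InPRad {G : Type*} [Group G] (p : ℕ) (N : Subgroup G) (g : G) : Prop :=
  ∃ D : Subgroup G, D.Normal ∧ g ∈ D ∧ ∀ d ∈ D, ∃ k : ℕ, d ^ p ^ k ∈ N

theorem inPRad_iff {G : Type*} [Group G] [Finite G] (N : Subgroup G) [N.Normal] (g : G) :
    InPRad p N g ↔ (g : G ⧸ N) ∈ Cfsg.pCore p (G ⧸ N) := by
  constructor
  · rintro ⟨D, hD, hg, hpow⟩
    have hn : (D.map (QuotientGroup.mk' N)).Normal := hD.map _ (QuotientGroup.mk'_surjective N)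
    have hp : IsPGroup p (D.map (QuotientGroup.mk' N)) := by
      rintro ⟨_, d, hd, rfl⟩
      obtain ⟨k, hk⟩ := hpow d hd
      refine ⟨k, Subtype.ext ?_⟩
      rw [SubmonoidClass.coe_pow, OneMemClass.coe_one, ← map_pow]
      exact (QuotientGroup.eq_one_iff _).2 hk
    exact Cores.le_pCore hp ⟨g, hg, rfl⟩
  · intro h
    haveI := (Cores.pCore_characteristic (G := G ⧸ N) p)
    refine ⟨(Cfsg.pCore p (G ⧸ N)).comap (QuotientGroup.mk' N), Subgroup.Normal.comap inferInstance _,
      h, fun d hd => ?_⟩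
    obtain ⟨k, hk⟩ := Cores.pCore_isPGroup (G := G ⧸ N) p ⟨_, hd⟩
    refine ⟨k, (QuotientGroup.eq_one_iff _).1 ?_⟩
    have := congrArg Subtype.val hk
    rw [SubmonoidClass.coe_pow, OneMemClass.coe_one] at this
    exact this

variable [Fact p.Prime]

/-- A representation with a quadratic element outside `O_p` has a natural submodule for a subgroup. -/
theorem exists_natural_of_notInPRad (hp : p ≠ 2) {n : ℕ} {Γ : Type*} [Group Γ] [Finite Γ]
    (ρ : Γ →* Matrix (Fin n) (Fin n) (ZMod p)) {x : Γ} (hx : (ρ x - 1) * (ρ x - 1) = 0)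
    (hrad : ¬ InPRad p ρ.ker x) :
    ∃ (K : Subgroup Γ) (σ : K →* Matrix.SpecialLinearGroup (Fin 2) (ZMod p))
      (P : Matrix (Fin n) (Fin 2) (ZMod p)), Function.Surjective σ ∧
      (∀ g : K, ρ g * P = P * (σ g).1) ∧ ∀ v : Fin 2 → ZMod p, P *ᵥ v = 0 → v = 0 := by
  rcases Nat.eq_zero_or_pos n with rfl | hn
  · exfalso
    apply hrad
    refine Exists.intro (⊤ : Subgroup Γ) ⟨Subgroup.normal_of_characteristic ⊤, Subgroup.mem_top x, ?_⟩
    intro d _
    refine Exists.intro 0 ?_
    rw [MonoidHom.mem_ker]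
    exact Subsingleton.elim _ _
  haveI : Nonempty (Fin n) := ⟨⟨0, hn⟩⟩
  let q := QuotientGroup.mk' ρ.ker
  let ρ' : Γ ⧸ ρ.ker →* Matrix (Fin n) (Fin n) (ZMod p) :=
    QuotientGroup.lift ρ.ker ρ le_rfl
  have hq : ∀ g, ρ' (q g) = ρ g := fun g => rfl
  have hρ' : Function.Injective ρ' := by
    rw [injective_iff_map_eq_one]
    intro y hy
    obtain ⟨g, rfl⟩ := QuotientGroup.mk'_surjective ρ.ker y
    exact (QuotientGroup.eq_one_iff g).2 hy
  have hxp : q x ^ p = 1 := by
    apply hρ'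
    rw [map_pow, hq, map_one]
    have h := sub_pow_char_of_commute (p := p) (Commute.one_right (ρ x))
    have hz : (ρ x - 1) ^ p = 0 :=
      pow_eq_zero_of_le (Fact.out : p.Prime).two_le ((sq _).trans hx)
    rw [one_pow, hz] at h
    exact sub_eq_zero.1 h.symm
  have hpg : IsPGroup p (Subgroup.zpowers (q x)) := by
    refine IsPGroup.of_card_dvd_pow (n := 1) ?_
    rw [Nat.card_zpowers, pow_one]
    exact orderOf_dvd_of_pow_eq_one hxp
  obtain ⟨g, hg⟩ : ∃ g : Γ ⧸ ρ.ker, ¬ IsPGroup p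
      (Subgroup.closure ({q x, g * q x * g⁻¹} : Set (Γ ⧸ ρ.ker))) := by
    by_contra hall
    push Not at hall
    obtain ⟨N, hN, hNp, hxN⟩ :=
      Cfsg.Agent.Lib.Involutions.BaerSuzuki.baer_suzuki_elem hpg hall
    refine hrad ((inPRad_iff ρ.ker x).2 ?_)
    exact Cores.le_pCore hNp hxN
  set W : Subgroup (Γ ⧸ ρ.ker) := Subgroup.closure {q x, g * q x * g⁻¹} with hW
  let a : W := ⟨q x, Subgroup.subset_closure (Or.inl rfl)⟩
  let b : W := ⟨g * q x * g⁻¹, Subgroup.subset_closure (Or.inr rfl)⟩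
  have hgen : Subgroup.closure ({a, b} : Set W) = ⊤ := by
    apply Subgroup.map_injective W.subtype_injective
    rw [MonoidHom.map_closure, Set.image_pair, ← MonoidHom.range_eq_map, Subgroup.range_subtype]
    exact hW.symm
  have hb : ∀ g, (ρ' (g * q x * g⁻¹) - 1) * (ρ' (g * q x * g⁻¹) - 1) = 0 := by
    intro g
    have h : ρ' (g * q x * g⁻¹) - 1 = ρ' g * (ρ x - 1) * ρ' g⁻¹ := by
      rw [map_mul, map_mul, hq, mul_sub, sub_mul, mul_one, ← map_mul ρ' g g⁻¹, mul_inv_cancel,
        map_one]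
    have h2 : ρ' g⁻¹ * ρ' g = 1 := by rw [← map_mul, inv_mul_cancel, map_one]
    rw [h]
    calc ρ' g * (ρ x - 1) * ρ' g⁻¹ * (ρ' g * (ρ x - 1) * ρ' g⁻¹)
        = ρ' g * ((ρ x - 1) * (ρ' g⁻¹ * ρ' g) * (ρ x - 1)) * ρ' g⁻¹ := by noncomm_ring
      _ = 0 := by rw [h2, mul_one, hx, mul_zero, zero_mul]
  obtain ⟨K, σ, P, hσ, hP, hPinj⟩ := exists_natural hp (ρ'.comp W.subtype)
    (hρ'.comp W.subtype_injective) (a := a) (b := b) hgen
    (by show (ρ' (q x) - 1) * (ρ' (q x) - 1) = 0; rw [hq]; exact hx) (hb g) hg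
  let e := (K.equivMapOfInjective W.subtype W.subtype_injective).symm
  let r : (K.map W.subtype).comap q →* K.map W.subtype :=
    (q.comp ((K.map W.subtype).comap q).subtype).codRestrict _ fun z => z.2
  have hr : Function.Surjective r := by
    rintro ⟨y, hy⟩
    obtain ⟨z, rfl⟩ := QuotientGroup.mk'_surjective ρ.ker y
    exact ⟨⟨z, hy⟩, rfl⟩
  refine ⟨(K.map W.subtype).comap q, σ.comp (e.toMonoidHom.comp r), P, fun A => ?_, fun z => ?_,
    hPinj⟩
  · obtain ⟨k, hk⟩ := hσ A
    obtain ⟨w, hw⟩ := e.surjective k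
    obtain ⟨z, hz⟩ := hr w
    exact ⟨z, by rw [MonoidHom.comp_apply, MonoidHom.comp_apply, hz, MulEquiv.coe_toMonoidHom, hw, hk]⟩
  · have h1 : (((e (r z) : K) : W) : Γ ⧸ ρ.ker) = q z :=
      congrArg Subtype.val ((K.equivMapOfInjective W.subtype W.subtype_injective).apply_symm_apply (r z))
    have := hP (e (r z))
    rw [MonoidHom.comp_apply, Subgroup.coe_subtype, h1, hq] at this
    exact this

/-- The elements of a normal `p`-subgroup that are central in it of order dividing `p`. -/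
def centralOmega {G : Type*} [Group G] (p : ℕ) (P : Subgroup G) : Subgroup G where
  carrier := {x | x ∈ P ∧ (∀ y ∈ P, x * y = y * x) ∧ x ^ p = 1}
  one_mem' := ⟨P.one_mem, by simp, one_pow p⟩
  mul_mem' {a b} ha hb := ⟨P.mul_mem ha.1 hb.1,
    fun y hy => by rw [mul_assoc, hb.2.1 y hy, ← mul_assoc, ha.2.1 y hy, mul_assoc],
    by rw [(show Commute a b from ha.2.1 b hb.1).mul_pow, ha.2.2, hb.2.2, one_mul]⟩
  inv_mem' {a} ha := ⟨P.inv_mem ha.1,
    fun y hy => ((show Commute a y from ha.2.1 y hy).inv_left).eq,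
    by rw [inv_pow, ha.2.2, inv_one]⟩

theorem centralOmega_normal {G : Type*} [Group G] {P : Subgroup G} (hP : P.Normal) :
    (centralOmega p P).Normal := by
  refine ⟨fun x hx g => ⟨hP.conj_mem x hx.1 g, fun y hy => ?_, ?_⟩⟩
  · have h := hx.2.1 (g⁻¹ * y * g) (by simpa using hP.conj_mem y hy g⁻¹)
    have := congrArg (fun z => g * z * g⁻¹) h
    simpa [mul_assoc] using this
  · rw [conj_pow, hx.2.2, mul_one, mul_inv_cancel]

theorem centralOmega_ne_bot {G : Type*} [Group G] [Finite G] {P : Subgroup G} (hP : IsPGroup p P)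
    (hne : P ≠ ⊥) : centralOmega p P ≠ ⊥ := by
  haveI : Nontrivial P := (Subgroup.nontrivial_iff_ne_bot P).2 hne
  have hc := hP.center_nontrivial
  have hcp : IsPGroup p (Subgroup.center P) := hP.to_subgroup _
  obtain ⟨m, hm0, hm⟩ := hcp.nontrivial_iff_card.1 hc
  obtain ⟨z, hz⟩ := exists_prime_orderOf_dvd_card' p (G := Subgroup.center P)
    (hm ▸ dvd_pow_self p hm0.ne')
  intro hbot
  have hmem : ((z : P) : G) ∈ centralOmega p P := by
    refine ⟨(z : P).2, fun y hy => ?_, ?_⟩
    · exact congrArg Subtype.val (Subgroup.mem_center_iff.1 z.2 ⟨y, hy⟩).symm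
    · have := congrArg (fun w : Subgroup.center P => ((w : P) : G)) (hz ▸ pow_orderOf_eq_one z)
      simpa using this
  rw [hbot, Subgroup.mem_bot] at hmem
  have h1 : z = 1 := Subtype.ext (Subtype.ext hmem)
  rw [h1, orderOf_one] at hz
  exact (Fact.out : p.Prime).one_lt.ne hz

theorem pow_conj_eq {G : Type*} [Group G] {x v c : G} (h : x * v * x⁻¹ = c * v)
    (hc : x * c = c * x) : ∀ n : ℕ, x ^ n * v * (x ^ n)⁻¹ = c ^ n * v := by
  intro n
  induction n with
  | zero => simp
  | succ n ih =>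
    calc x ^ (n + 1) * v * (x ^ (n + 1))⁻¹ = x * (x ^ n * v * (x ^ n)⁻¹) * x⁻¹ := by
          rw [pow_succ']; simp [mul_assoc]
      _ = x * c ^ n * (v * x⁻¹) := by rw [ih]; simp [mul_assoc]
      _ = c ^ n * (x * v * x⁻¹) := by
          rw [((show Commute x c from hc).pow_right n).eq]; simp [mul_assoc]
      _ = c ^ (n + 1) * v := by rw [h, pow_succ, mul_assoc]

/-- **Main theorem**: quadratic on a normal `p`-subgroup implies `O_p` of the automiser, or
a section `Qd(p)`. -/
theorem inPRad_or_involves (hp : p ≠ 2) : ∀ (m : ℕ) (G : Type u) [Group G] [Finite G],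
    Nat.card G ≤ m → ∀ (P : Subgroup G), P.Normal → IsPGroup p P → ∀ g : G, Quad P g →
      InPRad p (Subgroup.centralizer (P : Set G)) g ∨ Cfsg.Involves ↥(Cfsg.qd p) G := by
  intro m
  induction m with
  | zero => intro G _ _ hm; exact absurd hm (by have := Nat.card_pos (α := G); omega)
  | succ m ih =>
    intro G _ _ hm P hP hPp g hq
    by_cases hbot : P = ⊥
    · left
      exact ⟨⊤, inferInstance, Subgroup.mem_top _, fun d _ => ⟨0, by
        simp [hbot, Subgroup.mem_centralizer_iff]⟩⟩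
    set Z := centralOmega p P with hZ
    haveI := hP
    haveI : Z.Normal := centralOmega_normal hP
    have hZP : Z ≤ P := fun z hz => hz.1
    letI : CommGroup Z := { (inferInstance : Group Z) with
      mul_comm := fun a b => Subtype.ext (a.2.2.1 b b.2.1) }
    obtain ⟨n, ρ, hker, hquad, E, hE, hEact⟩ :=
      exists_matrix (A := Z) (fun x => Subtype.ext x.2.2.2) (MulAut.conjNormal : G →* MulAut Z)
    have hqz : (ρ g - 1) * (ρ g - 1) = 0 := by
      refine hquad g fun x => ?_
      apply Subtype.ext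
      have hy : ((MulAut.conjNormal g x / x : Z) : G) = ⁅(x : G), g⁆⁻¹ := by
        show ((MulAut.conjNormal g x : Z) : G) / (x : G) = _
        rw [MulAut.conjNormal_apply, div_eq_mul_inv, commutatorElement_inv, commutatorElement_def]
      rw [MulAut.conjNormal_apply, hy, mul_inv_eq_iff_eq_mul]
      have hcc := hq _ (hZP x.2)
      rw [commutatorElement_eq_one_iff_mul_comm] at hcc
      exact ((Commute.inv_left (show Commute ⁅(x : G), g⁆ g from hcc)).eq).symm
    by_cases hr1 : InPRad p ρ.ker g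
    swap
    · right
      obtain ⟨K, σ, P0, hσ, hP0, hP0inj⟩ := exists_natural_of_notInPRad hp ρ hqz hr1
      let e : Multiplicative (Fin 2 → ZMod p) →* G :=
        (Z.subtype.comp E).comp
          (AddMonoidHom.toMultiplicative (Matrix.mulVecLin P0).toAddMonoidHom)
      refine involves_qd_of_natural hp e ?_ K σ hσ fun k v => ?_
      · intro v w h
        have h1 : P0 *ᵥ (Multiplicative.toAdd v) = P0 *ᵥ (Multiplicative.toAdd w) :=
          Multiplicative.ofAdd.injective (hE (Z.subtype_injective h))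
        have h2 : P0 *ᵥ (Multiplicative.toAdd v - Multiplicative.toAdd w) = 0 := by
          rw [Matrix.mulVec_sub, h1, sub_self]
        exact Multiplicative.toAdd.injective (sub_eq_zero.1 (hP0inj _ h2))
      · show (k : G) * ((E (Multiplicative.ofAdd (P0 *ᵥ v)) : Z) : G) * (k : G)⁻¹ =
          ((E (Multiplicative.ofAdd (P0 *ᵥ ((σ k).1 *ᵥ v))) : Z) : G)
        rw [Matrix.mulVec_mulVec, ← hP0 k, ← Matrix.mulVec_mulVec, ← hEact,
          MulAut.conjNormal_apply]
    -- recursion in `G ⧸ Z`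
    have hlt : Nat.card (G ⧸ Z) ≤ m := by
      have h1 := Subgroup.card_eq_card_quotient_mul_card_subgroup Z
      have h2 : 1 < Nat.card Z := Subgroup.one_lt_card_iff_ne_bot Z |>.2 (centralOmega_ne_bot hPp hbot)
      have h3 : 0 < Nat.card (G ⧸ Z) := Nat.card_pos
      nlinarith
    let q := QuotientGroup.mk' Z
    have hPn : (P.map q).Normal := hP.map q (QuotientGroup.mk'_surjective Z)
    rcases ih (G ⧸ Z) hlt (P.map q) hPn (hPp.map q) (q g) (by
      rintro _ ⟨v, hv, rfl⟩
      rw [← map_commutatorElement, ← map_commutatorElement, hq v hv, map_one]) with hr2 | hinv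
    swap
    · exact Or.inr (involves_of_map q (QuotientGroup.mk'_surjective Z) hinv)
    left
    obtain ⟨D1, hD1, hg1, hpow1⟩ := hr1
    obtain ⟨D2, hD2, hg2, hpow2⟩ := hr2
    haveI := hD1; haveI := hD2
    refine ⟨D1 ⊓ D2.comap q, inferInstance, ⟨hg1, hg2⟩, fun d hd => ?_⟩
    obtain ⟨i, hi⟩ := hpow1 d hd.1
    obtain ⟨j, hj⟩ := hpow2 (q d) hd.2
    refine ⟨i + j + 1, ?_⟩
    set x := d ^ p ^ (i + j) with hx
    have hx1 : x ∈ ρ.ker := by rw [hx, pow_add, pow_mul]; exact Subgroup.pow_mem _ hi _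
    have hx2 : q x ∈ Subgroup.centralizer ((P.map q : Subgroup (G ⧸ Z)) : Set (G ⧸ Z)) := by
      rw [hx, map_pow, add_comm, pow_add, pow_mul]
      exact Subgroup.pow_mem _ hj _
    rw [pow_succ, pow_mul, ← hx, Subgroup.mem_centralizer_iff]
    intro v hv
    set c := x * v * x⁻¹ * v⁻¹ with hc
    have hxv : x * v * x⁻¹ = c * v := by rw [hc, inv_mul_cancel_right]
    have hcZ : c ∈ Z := by
      rw [← QuotientGroup.eq_one_iff, ← QuotientGroup.mk'_apply, hc]
      have := Subgroup.mem_centralizer_iff.1 hx2 (q v) ⟨v, hv, rfl⟩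
      simp only [map_mul, map_inv]
      rw [← this]
      simp [q, mul_assoc]
    have hxc : x * c = c * x := by
      have h1 : MulAut.conjNormal x (⟨c, hcZ⟩ : Z) = ⟨c, hcZ⟩ := by
        rw [show (MulAut.conjNormal x : MulAut Z) = 1 from (hker x).1 hx1]; rfl
      have h2 := congrArg Subtype.val h1
      rw [MulAut.conjNormal_apply] at h2
      exact mul_inv_eq_iff_eq_mul.1 h2
    have := pow_conj_eq hxv hxc p
    rw [hcZ.2.2, one_mul, mul_inv_eq_iff_eq_mul] at this
    exact this.symm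

/-- Failure of `p`-stability (normalizer form) gives a section `Qd(p)`. -/
theorem involves_qd_of_quad (hp : p ≠ 2) {G : Type u} [Group G] [Finite G] {P : Subgroup G}
    (hP : IsPGroup p P) {g : G} (hg : g ∈ Subgroup.normalizer (P : Set G)) (hq : Quad P g)
    (hna : (QuotientGroup.mk (s := (Subgroup.centralizer (P : Set G)).subgroupOf
        (Subgroup.normalizer (P : Set G))) (⟨g, hg⟩ : ↥(Subgroup.normalizer (P : Set G)))) ∉
      Cfsg.pCore p (↥(Subgroup.normalizer (P : Set G)) ⧸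
        (Subgroup.centralizer (P : Set G)).subgroupOf (Subgroup.normalizer (P : Set G)))) :
    Cfsg.Involves ↥(Cfsg.qd p) G := by
  set N := Subgroup.normalizer (P : Set G) with hN
  have hPN : P ≤ N := Subgroup.le_normalizer
  haveI hn : (P.subgroupOf N).Normal := by rw [hN]; infer_instance
  have hPp : IsPGroup p (P.subgroupOf N) := hP.of_equiv (Subgroup.subgroupOfEquivOfLe hPN).symm
  rcases inPRad_or_involves hp _ N le_rfl (P.subgroupOf N) hn hPp ⟨g, hg⟩ (fun v hv => by
      apply Subtype.ext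
      simpa [commutatorElement_def] using hq _ hv) with h | h
  · exfalso
    apply hna
    obtain ⟨D, hD, hgD, hpow⟩ := h
    refine (inPRad_iff _ _).1 ⟨D, hD, hgD, fun d hd => ?_⟩
    obtain ⟨k, hk⟩ := hpow d hd
    refine ⟨k, ?_⟩
    rw [Subgroup.mem_subgroupOf, Subgroup.mem_centralizer_iff]
    intro v hv
    exact congrArg Subtype.val (Subgroup.mem_centralizer_iff.1 hk ⟨v, hPN hv⟩ hv)
  · exact involves_of_subgroup h

theorem involves_qd_of_not_stable (hp : p ≠ 2) {G : Type u} [Group G] [Finite G]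
    (h : ¬ Cfsg.IsNormalizerPStable p G) : Cfsg.Involves ↥(Cfsg.qd p) G := by
  unfold Cfsg.IsNormalizerPStable at h
  push Not at h
  obtain ⟨P, hP, g, hg, hq, hna⟩ := h
  exact involves_qd_of_quad hp hP hg (quad_of_commutator_eq_bot hq) hna

end Cfsg.Agent.Lib.Quadratic
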