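import Cfsg.Agent.Lib.Quadratic.PStable

/-!
`Qd(p)` for odd `p`: it maps onto `SL(2,p)`, it is not `p`-stable, and a group involving it has a
`p`-local subgroup involving `SL(2,p)`.
-/

namespace Cfsg.Agent.Lib.Quadratic

open scoped commutatorElement
open Matrix
open Cfsg.Agent.Lib.PLocal.SLTwo (up lo up_add lo_add up_zero lo_zero val_mul closure_pair_eq_top
  up_natCast lo_natCast)

variable {p : ℕ}

theorem exists_affine_of_mem_qd {M : Matrix.SpecialLinearGroup (Fin 3) (ZMod p)}
    (hM : M ∈ Cfsg.qd p) : ∃ A v, M = affine A v := by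
  unfold Cfsg.qd at hM
  induction hM using Subgroup.closure_induction with
  | mem x hx => exact exists_affine_of_last_row hx.1 hx.2.1 hx.2.2
  | one => exact ⟨1, 0, affine_one.symm⟩
  | mul x y _ _ ihx ihy =>
    obtain ⟨A, v, rfl⟩ := ihx
    obtain ⟨B, w, rfl⟩ := ihy
    exact ⟨_, _, affine_mul A B v w⟩
  | inv x _ ih =>
    obtain ⟨A, v, rfl⟩ := ih
    refine ⟨A⁻¹, (A⁻¹).1 *ᵥ (-v), inv_eq_of_mul_eq_one_right ?_⟩
    have h1 : A.1 * (A⁻¹).1 = 1 := congrArg Subtype.val (mul_inv_cancel A)
    rw [affine_mul, mul_inv_cancel, Matrix.mulVec_mulVec, h1, Matrix.one_mulVec, add_neg_cancel,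
      affine_one]

theorem affine_inj {A B : Matrix.SpecialLinearGroup (Fin 2) (ZMod p)} {v w : Fin 2 → ZMod p}
    (h : affine A v = affine B w) : A = B ∧ v = w := by
  have h' : (affine A v).1 = (affine B w).1 := congrArg Subtype.val h
  rw [coe_affine, coe_affine] at h'
  have e := fun i j => congrFun (congrFun h' i) j
  refine ⟨?_, ?_⟩
  · apply Subtype.ext
    ext i j
    fin_cases i <;> fin_cases j
    · simpa using e 0 0
    · simpa using e 0 1
    · simpa using e 1 0
    · simpa using e 1 1
  · ext i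
    fin_cases i
    · simpa using e 0 2
    · simpa using e 1 2

/-- The linear part. -/
noncomputable def linPart (p : ℕ) : Cfsg.qd p →* Matrix.SpecialLinearGroup (Fin 2) (ZMod p) :=
  MonoidHom.mk' (fun M => (exists_affine_of_mem_qd M.2).choose) (by
    intro M N
    obtain ⟨v, hv⟩ := (exists_affine_of_mem_qd M.2).choose_spec
    obtain ⟨w, hw⟩ := (exists_affine_of_mem_qd N.2).choose_spec
    obtain ⟨u, hu⟩ := (exists_affine_of_mem_qd (M * N).2).choose_spec
    have h1 : ((M * N : Cfsg.qd p) : Matrix.SpecialLinearGroup (Fin 3) (ZMod p)) =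
        affine ((exists_affine_of_mem_qd M.2).choose * (exists_affine_of_mem_qd N.2).choose)
          (v + (exists_affine_of_mem_qd M.2).choose.1 *ᵥ w) := by
      rw [Subgroup.coe_mul, ← affine_mul]
      exact congrArg₂ (· * ·) hv hw
    exact (affine_inj (hu.symm.trans h1)).1)

theorem linPart_affine (A : Matrix.SpecialLinearGroup (Fin 2) (ZMod p)) (v : Fin 2 → ZMod p) :
    linPart p ⟨affine A v, affine_mem_qd A v⟩ = A := by
  obtain ⟨w, hw⟩ := (exists_affine_of_mem_qd (affine_mem_qd A v)).choose_spec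
  exact (affine_inj hw).1.symm

theorem linPart_surjective : Function.Surjective (linPart p) :=
  fun A => ⟨⟨affine A 0, affine_mem_qd A 0⟩, linPart_affine A 0⟩

theorem sl2_involves_qd :
    Cfsg.Involves (Matrix.SpecialLinearGroup (Fin 2) (ZMod p)) ↥(Cfsg.qd p) :=
  involves_of_surjective (K := (⊤ : Subgroup ↥(Cfsg.qd p)))
    ((linPart p).comp (Subgroup.topEquiv (G := ↥(Cfsg.qd p))).toMonoidHom)
    (linPart_surjective.comp (Subgroup.topEquiv (G := ↥(Cfsg.qd p))).surjective)

/-- Translations inside `Qd(p)`. -/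
def transHom (p : ℕ) : Multiplicative (Fin 2 → ZMod p) →* Cfsg.qd p :=
  MonoidHom.mk' (fun v => ⟨affine 1 (Multiplicative.toAdd v), affine_mem_qd _ _⟩) fun v w => by
    apply Subtype.ext
    rw [Subgroup.coe_mul]
    simp [affine_mul]

theorem coe_transHom (v : Multiplicative (Fin 2 → ZMod p)) :
    ((transHom p v : Cfsg.qd p) : Matrix.SpecialLinearGroup (Fin 3) (ZMod p)) =
      affine 1 (Multiplicative.toAdd v) := rfl

theorem transHom_ker_linPart : (transHom p).range = (linPart p).ker := by
  ext M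
  constructor
  · rintro ⟨v, rfl⟩
    exact linPart_affine 1 _
  · intro hM
    obtain ⟨v, hv⟩ := (exists_affine_of_mem_qd M.2).choose_spec
    refine ⟨Multiplicative.ofAdd v, Subtype.ext ?_⟩
    rw [show (exists_affine_of_mem_qd M.2).choose = 1 from hM] at hv
    exact hv.symm

variable [Fact p.Prime]

theorem isPGroup_trans : IsPGroup p (transHom p).range := by
  intro z
  obtain ⟨v, hv⟩ := z.2
  refine ⟨1, Subtype.ext ?_⟩
  rw [pow_one, SubmonoidClass.coe_pow, OneMemClass.coe_one, ← hv, ← map_pow]
  have : v ^ p = 1 := by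
    rw [← toAdd_eq_zero, toAdd_pow, ← Nat.cast_smul_eq_nsmul (ZMod p), ZMod.natCast_self, zero_smul]
  rw [this, map_one]

theorem up_conj_transHom (w : Fin 2 → ZMod p) :
    (⟨affine (up 1) 0, affine_mem_qd _ _⟩ : Cfsg.qd p) * transHom p (Multiplicative.ofAdd w) *
      (⟨affine (up 1) 0, affine_mem_qd _ _⟩ : Cfsg.qd p)⁻¹ =
      transHom p (Multiplicative.ofAdd (![w 0 + w 1, w 1])) := by
  rw [mul_inv_eq_iff_eq_mul]
  apply Subtype.ext
  rw [Subgroup.coe_mul, Subgroup.coe_mul, coe_transHom, coe_transHom, toAdd_ofAdd, toAdd_ofAdd,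
    affine_mul, affine_mul]
  congr 1
  · rw [mul_one, one_mul]
  · ext i
    fin_cases i <;> simp [Dickson.coe_up, Matrix.mulVec, dotProduct, Fin.sum_univ_two]

/-- A group isomorphic to `Qd(p)` is not `p`-stable, `p` odd. -/
theorem not_stable_of_equiv (hp : p ≠ 2) {X : Type*} [Group X] [Finite X]
    (e : X ≃* ↥(Cfsg.qd p)) : ¬ Cfsg.IsNormalizerPStable p X := by
  intro hst
  set f : Multiplicative (Fin 2 → ZMod p) →* X := e.symm.toMonoidHom.comp (transHom p) with hf
  have hP : f.range = ((linPart p).comp e.toMonoidHom).ker := by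
    rw [hf, MonoidHom.range_comp, transHom_ker_linPart]
    ext x
    constructor
    · rintro ⟨y, hy, rfl⟩
      simpa [MonoidHom.mem_ker] using hy
    · intro hx
      exact ⟨e x, hx, e.symm_apply_apply x⟩
  haveI hn : f.range.Normal := hP ▸ MonoidHom.normal_ker _
  have hPp : IsPGroup p f.range := by
    rw [hf, MonoidHom.range_comp]
    exact isPGroup_trans.map _
  let g : X := e.symm ⟨affine (up 1) 0, affine_mem_qd _ _⟩
  have hgN : g ∈ Subgroup.normalizer (f.range : Set X) := by
    rw [Subgroup.normalizer_eq_top]; trivial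
  have hgf : ∀ (k : ℤ) (v : Fin 2 → ZMod p), g ^ k * f (Multiplicative.ofAdd v) * (g ^ k)⁻¹ =
      f (Multiplicative.ofAdd (![v 0 + (k : ZMod p) * v 1, v 1])) := by
    have key : ∀ w : Fin 2 → ZMod p, g * f (Multiplicative.ofAdd w) * g⁻¹ =
        f (Multiplicative.ofAdd (![w 0 + w 1, w 1])) := fun w => by
      simp only [g, hf, MonoidHom.comp_apply, MulEquiv.coe_toMonoidHom]
      rw [← map_inv, ← map_mul, ← map_mul, up_conj_transHom]
    intro k
    induction k using Int.induction_on with
    | zero => intro v; simp; congr 1; ext i; fin_cases i <;> simp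
    | succ k ih =>
      intro v
      rw [_root_.zpow_add_one, _root_.mul_inv_rev]
      calc g ^ (k : ℤ) * g * f (Multiplicative.ofAdd v) * (g⁻¹ * (g ^ (k : ℤ))⁻¹)
          = g ^ (k : ℤ) * (g * f (Multiplicative.ofAdd v) * g⁻¹) * (g ^ (k : ℤ))⁻¹ := by
            simp [mul_assoc]
        _ = _ := by
          rw [key, ih]
          congr 2
          ext i
          fin_cases i <;> simp
          ring
    | pred k ih =>
      intro v
      rw [_root_.zpow_sub_one, _root_.mul_inv_rev, inv_inv]
      calc g ^ (-(k : ℤ)) * g⁻¹ * f (Multiplicative.ofAdd v) * (g * (g ^ (-(k : ℤ)))⁻¹)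
          = g ^ (-(k : ℤ)) * (g⁻¹ * f (Multiplicative.ofAdd v) * g) * (g ^ (-(k : ℤ)))⁻¹ := by
            simp [mul_assoc]
        _ = _ := by
          have h1 : g⁻¹ * f (Multiplicative.ofAdd v) * g =
              f (Multiplicative.ofAdd (![v 0 - v 1, v 1])) := by
            have := key ![v 0 - v 1, v 1]
            simp at this
            rw [show (![v 0, v 1] : Fin 2 → ZMod p) = v by ext i; fin_cases i <;> rfl] at this
            rw [← this]
            simp [mul_assoc]
          rw [h1, ih]
          congr 2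
          ext i
          fin_cases i <;> simp
          ring
  have hq : ⁅⁅f.range, Subgroup.zpowers g⁆, Subgroup.zpowers g⁆ = ⊥ := by
    rw [Subgroup.commutator_eq_bot_iff_le_centralizer, Subgroup.commutator_le]
    rintro _ ⟨v, rfl⟩ y hy
    obtain ⟨k, rfl⟩ := Subgroup.mem_zpowers_iff.1 hy
    rw [Subgroup.mem_centralizer_iff]
    intro z hz
    obtain ⟨j, rfl⟩ := Subgroup.mem_zpowers_iff.1 hz
    rw [← mul_inv_eq_iff_eq_mul]
    obtain ⟨w, rfl⟩ := Multiplicative.ofAdd.surjective v
    have hc : ⁅f (Multiplicative.ofAdd w), g ^ k⁆ =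
        f (Multiplicative.ofAdd (![-((k : ZMod p) * w 1), 0])) := by
      rw [commutatorElement_def, mul_assoc, mul_assoc, ← mul_assoc (g ^ k), ← map_inv f, ← ofAdd_neg,
        hgf, ← map_mul f, ← ofAdd_add]
      congr 2
      ext i
      fin_cases i <;> simp
    rw [hc, hgf]
    congr 2
    ext i
    fin_cases i <;> simp
  have hmem := hst f.range hPp g hgN hq
  rw [← inPRad_iff] at hmem
  obtain ⟨D, hD, hgD, hpow⟩ := hmem
  -- the linear image of `D` is a normal `p`-subgroup containing `up 1`
  set π : ↥(Subgroup.normalizer (f.range : Set X)) →* Matrix.SpecialLinearGroup (Fin 2) (ZMod p) :=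
    ((linPart p).comp e.toMonoidHom).comp (Subgroup.normalizer (f.range : Set X)).subtype
  have hπ : Function.Surjective π := by
    intro A
    obtain ⟨M, hM⟩ := linPart_surjective A
    exact ⟨⟨e.symm M, by rw [Subgroup.normalizer_eq_top]; trivial⟩, by simp [π, hM, -MonoidHom.coe_range]⟩
  have hDn : (D.map π).Normal := hD.map π hπ
  have hup : up 1 ∈ D.map π := ⟨⟨g, hgN⟩, hgD, by
    show linPart p (e g) = up 1
    simp only [g, MulEquiv.apply_symm_apply, linPart_affine]⟩
  have hpgrp : IsPGroup p (D.map π) := by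
    rintro ⟨_, d, hd, rfl⟩
    obtain ⟨k, hk⟩ := hpow d hd
    refine ⟨k, Subtype.ext ?_⟩
    rw [SubmonoidClass.coe_pow, OneMemClass.coe_one, ← map_pow]
    rw [Subgroup.mem_subgroupOf, Subgroup.mem_centralizer_iff] at hk
    set x : X := ((d ^ p ^ k : ↥(Subgroup.normalizer (f.range : Set X))) : X) with hx
    obtain ⟨v, hv⟩ := (exists_affine_of_mem_qd (e x).2).choose_spec
    show linPart p (e x) = 1
    set A := (exists_affine_of_mem_qd (e x).2).choose with hA
    have hlin : linPart p (e x) = A := rfl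
    rw [hlin]
    apply Subtype.ext
    apply Matrix.toLin'.injective
    refine LinearMap.ext fun w => ?_
    simp only [Matrix.toLin'_apply, Matrix.SpecialLinearGroup.coe_one, Matrix.one_mulVec]
    have h1 := congrArg (fun z => ((e z : Cfsg.qd p) : Matrix.SpecialLinearGroup (Fin 3) (ZMod p)))
      (hk (f (Multiplicative.ofAdd w)) ⟨_, rfl⟩)
    simp only [map_mul, Subgroup.coe_mul, hf, MonoidHom.comp_apply, MulEquiv.coe_toMonoidHom,
      MulEquiv.apply_symm_apply] at h1
    rw [hv] at h1
    change affine 1 w * affine A v = affine A v * affine 1 w at h1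
    rw [affine_mul, affine_mul, Matrix.SpecialLinearGroup.coe_one, Matrix.one_mulVec] at h1
    have h2 := (affine_inj h1).2
    rw [add_comm] at h2
    exact (add_left_cancel h2).symm
  have hlo : lo 1 ∈ D.map π := by
    let w : Matrix.SpecialLinearGroup (Fin 2) (ZMod p) := up 1 * lo (-1) * up 1
    have hconj : w * up (-1) * w⁻¹ = lo 1 := by
      rw [mul_inv_eq_iff_eq_mul]
      apply Subtype.ext
      simp only [w, val_mul]
      ext i j
      fin_cases i <;> fin_cases j <;>
        simp [Dickson.coe_up, Dickson.coe_lo, Matrix.mul_apply, Fin.sum_univ_two]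
    rw [← hconj, ← Dickson.up_inv]
    exact hDn.conj_mem _ ((D.map π).inv_mem hup) w
  have htop : (⊤ : Subgroup (Matrix.SpecialLinearGroup (Fin 2) (ZMod p))) ≤ D.map π := by
    rw [← closure_pair_eq_top, Subgroup.closure_le]
    rintro M (rfl | rfl)
    exacts [hup, hlo]
  obtain ⟨k, hk⟩ := hpgrp ⟨Dickson.negI, htop (Subgroup.mem_top _)⟩
  have hk' : (Dickson.negI : Matrix.SpecialLinearGroup (Fin 2) (ZMod p)) ^ p ^ k = 1 := by
    have := congrArg Subtype.val hk
    rw [SubmonoidClass.coe_pow, OneMemClass.coe_one] at this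
    exact this
  obtain ⟨i, hi⟩ := ((Fact.out : p.Prime).odd_of_ne_two hp).pow (n := k)
  rw [hi, pow_succ, pow_mul, sq, Dickson.negI_mul_self, one_pow, one_mul] at hk'
  have h00 := congrArg (fun z : Matrix.SpecialLinearGroup (Fin 2) (ZMod p) =>
    (z : Matrix (Fin 2) (Fin 2) (ZMod p)) 0 0) hk'
  simp [Dickson.negI] at h00
  exact Dickson.two_ne_zero_char (F := ZMod p) hp (by linear_combination (-1) * h00)

/-- A group involving `Qd(p)` has a `p`-local subgroup involving `SL(2,p)`. -/
theorem exists_local_involves_sl2 {G : Type*} [Group G] [Finite G]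
    (h : Cfsg.Involves ↥(Cfsg.qd p) G) :
    ∃ P : Subgroup G, IsPGroup p P ∧ P ≠ ⊥ ∧
      Cfsg.Involves (Matrix.SpecialLinearGroup (Fin 2) (ZMod p))
        ↥(Subgroup.normalizer (P : Set G)) := by
  obtain ⟨K, f, hf⟩ := exists_surjective_of_involves h
  set T : Subgroup K := ((linPart p).comp f).ker with hT
  haveI : T.Normal := MonoidHom.normal_ker _
  obtain ⟨S⟩ : Nonempty (Sylow p T) := inferInstance
  set Q : Subgroup K := (S : Subgroup T).map T.subtype with hQ
  have hfr : Subgroup.normalizer (Q : Set K) ⊔ T = ⊤ := Sylow.normalizer_sup_eq_top S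
  refine ⟨Q.map K.subtype, (S.2.map _).map _, ?_, ?_⟩
  · intro hbot
    have hS : (S : Subgroup T) = ⊥ :=
      (Subgroup.map_eq_bot_iff_of_injective _ T.subtype_injective).1
        ((Subgroup.map_eq_bot_iff_of_injective _ K.subtype_injective).1 hbot)
    -- then `T` has order prime to `p`, but maps onto the translations
    obtain ⟨k, hk⟩ := hf ⟨affine 1 ![1, 0], affine_mem_qd _ _⟩
    have hkT : k ∈ T := by rw [hT, MonoidHom.mem_ker, MonoidHom.comp_apply, hk]; exact linPart_affine _ _
    have hndvd : ¬ p ∣ Nat.card T := by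
      intro hd
      obtain ⟨z, hz⟩ := exists_prime_orderOf_dvd_card' p hd
      have hzp : IsPGroup p (Subgroup.zpowers z) := IsPGroup.of_card (n := 1) (by
        rw [Nat.card_zpowers, hz, pow_one])
      obtain ⟨S', hS'⟩ := hzp.exists_le_sylow
      have hbot' : (S' : Subgroup T) = ⊥ := by
        apply Subgroup.card_eq_one.1
        rw [S'.card_eq_multiplicity, ← S.card_eq_multiplicity, hS, Subgroup.card_bot]
      have h1 := hS' (Subgroup.mem_zpowers z)
      rw [hbot', Subgroup.mem_bot] at h1
      rw [h1, orderOf_one] at hz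
      exact (Fact.out : p.Prime).one_lt.ne hz
    have hfk : f k ^ p = 1 := by
      rw [hk]
      have hp1 : (transHom p (Multiplicative.ofAdd ![1, 0])) ^ p = 1 := by
        rw [← map_pow, ← ofAdd_nsmul, ← Nat.cast_smul_eq_nsmul (ZMod p), ZMod.natCast_self,
          zero_smul, ofAdd_zero, map_one]
      exact hp1
    have hfk1 : f k = 1 := by
      have h1 : orderOf (f k) ∣ p := orderOf_dvd_of_pow_eq_one hfk
      rcases (Nat.dvd_prime Fact.out).1 h1 with h2 | h2
      · exact orderOf_eq_one_iff.1 h2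
      · exfalso
        apply hndvd
        rw [← h2]
        refine (orderOf_map_dvd f k).trans ?_
        rw [show orderOf k = orderOf (⟨k, hkT⟩ : T) from (Subgroup.orderOf_mk _ _).symm]
        exact orderOf_dvd_natCard _
    rw [hk] at hfk1
    have := (affine_inj ((congrArg Subtype.val hfk1).trans affine_one.symm)).2
    simpa using congrFun this 0
  · let N := Subgroup.normalizer ((Q.map K.subtype : Subgroup G) : Set G)
    have hle : (Subgroup.normalizer (Q : Set K)).map K.subtype ≤ N :=
      Subgroup.le_normalizer_map _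
    let e := ((Subgroup.normalizer (Q : Set K)).equivMapOfInjective K.subtype K.subtype_injective)
    let i := (Subgroup.inclusion hle).comp e.toMonoidHom
    let j : i.range →* Matrix.SpecialLinearGroup (Fin 2) (ZMod p) :=
      (((linPart p).comp f).comp (Subgroup.normalizer (Q : Set K)).subtype).comp
        (MonoidHom.ofInjective (f := i) ((Subgroup.inclusion_injective hle).comp e.injective)).symm.toMonoidHom
    refine involves_of_surjective j fun A => ?_
    obtain ⟨k, hk⟩ := (linPart_surjective.comp hf) A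
    have hmem : A ∈ (Subgroup.normalizer (Q : Set K)).map ((linPart p).comp f) := by
      have h1 : A ∈ (Subgroup.normalizer (Q : Set K) ⊔ T).map ((linPart p).comp f) :=
        ⟨k, hfr ▸ Subgroup.mem_top _, hk⟩
      rw [Subgroup.map_sup, hT, Subgroup.map_eq_bot_iff _ |>.2 le_rfl, sup_bot_eq] at h1
      exact h1
    obtain ⟨n, hn, hnA⟩ := hmem
    refine ⟨⟨i ⟨n, hn⟩, ⟨_, rfl⟩⟩, ?_⟩
    simp only [j, MonoidHom.comp_apply, MulEquiv.coe_toMonoidHom]
    rw [show (MonoidHom.ofInjective (f := i) ((Subgroup.inclusion_injective hle).comp e.injective)).symm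
      ⟨i ⟨n, hn⟩, ⟨_, rfl⟩⟩ = ⟨n, hn⟩ from MulEquiv.symm_apply_apply _ _]
    exact hnA

end Cfsg.Agent.Lib.Quadratic
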