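import Cfsg.Agent.Lib.Quadratic.ZJControl

/-!
If `Qd(p)` is involved in `G` then some automizer `N(Q)/C(Q)` of a `p`-subgroup involves `SL(2,p)`.
-/

namespace Cfsg.Agent.Lib.Quadratic

open Matrix

variable {p : ℕ} [Fact p.Prime]

/-- A surjection from a subgroup of `N(Q)` killing its part in `C(Q)` gives a section of the automizer. -/
theorem exists_automizer_section {G S : Type*} [Group G] [Group S] {Q : Subgroup G}
    (M : Subgroup G) (hM : M ≤ Subgroup.normalizer (Q : Set G)) (φ : M →* S)
    (hφ : Function.Surjective φ) (hker : ∀ m : M, (m : G) ∈ Subgroup.centralizer (Q : Set G) → φ m = 1) :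
    ∃ (H K : Subgroup G) (_ : (K.subgroupOf H).Normal),
      Subgroup.centralizer (Q : Set G) ≤ K ∧ K ≤ H ∧ H ≤ Subgroup.normalizer (Q : Set G) ∧
      Nonempty ((↥H ⧸ K.subgroupOf H) ≃* S) := by
  set C := Subgroup.centralizer (Q : Set G) with hC
  set H := M ⊔ C with hH
  have hCN : C ≤ Subgroup.normalizer (Q : Set G) := Subgroup.centralizer_le_normalizer _
  have hHN : H ≤ Subgroup.normalizer (Q : Set G) := sup_le hM hCN
  have hMC : M ≤ Subgroup.normalizer (C : Set G) := fun m hm => by
    rw [Subgroup.mem_normalizer_iff]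
    intro c
    simp only [hC, Subgroup.mem_centralizer_iff]
    constructor
    · intro hc q hq
      have hq' : m⁻¹ * q * m ∈ Q := by
        simpa using (Subgroup.mem_normalizer_iff.1 (inv_mem (hM hm)) q).1 hq
      have := congrArg (fun z => m * z * m⁻¹) (hc _ hq')
      simpa [mul_assoc] using this
    · intro hc q hq
      have hq' : m * q * m⁻¹ ∈ Q := (Subgroup.mem_normalizer_iff.1 (hM hm) q).1 hq
      have := congrArg (fun z => m⁻¹ * z * m) (hc _ hq')
      simpa [mul_assoc] using this
  haveI hCn : (C.subgroupOf H).Normal :=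
    Subgroup.normal_subgroupOf_of_le_normalizer (sup_le hMC Subgroup.le_normalizer)
  let ψ : M →* H ⧸ C.subgroupOf H :=
    (QuotientGroup.mk' _).comp (Subgroup.inclusion le_sup_left)
  have hψ : Function.Surjective ψ := by
    intro y
    obtain ⟨⟨h, hh⟩, rfl⟩ := QuotientGroup.mk'_surjective _ y
    have hh' : h ∈ ((M ⊔ C : Subgroup G) : Set G) := hh
    rw [Subgroup.coe_mul_of_left_le_normalizer_right M C hMC] at hh'
    obtain ⟨m, hm, c, hc, rfl⟩ := hh'
    refine ⟨⟨m, hm⟩, QuotientGroup.eq.2 ?_⟩
    show (m⁻¹ * (m * c) : G) ∈ C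
    simpa using hc
  let j : H ⧸ C.subgroupOf H →* S :=
    (QuotientGroup.lift ψ.ker φ fun m hm => by
      refine hker m ?_
      have := (QuotientGroup.eq_one_iff (N := C.subgroupOf H) _).1 (MonoidHom.mem_ker.1 hm)
      exact this).comp (QuotientGroup.quotientKerEquivOfSurjective ψ hψ).symm.toMonoidHom
  let f : H →* S := j.comp (QuotientGroup.mk' _)
  have hf : Function.Surjective f := by
    intro s
    obtain ⟨m, rfl⟩ := hφ s
    refine ⟨Subgroup.inclusion le_sup_left m, ?_⟩
    have h1 : (QuotientGroup.quotientKerEquivOfSurjective ψ hψ).symm (ψ m) =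
        QuotientGroup.mk m := (MulEquiv.symm_apply_eq _).2 rfl
    show j (ψ m) = φ m
    simp only [j, MonoidHom.comp_apply, MulEquiv.coe_toMonoidHom]
    rw [h1]
    rfl
  have hK : (f.ker.map H.subtype).subgroupOf H = f.ker := by
    rw [Subgroup.subgroupOf, Subgroup.comap_map_eq_self_of_injective H.subtype_injective]
  haveI hKn : ((f.ker.map H.subtype).subgroupOf H).Normal := by rw [hK]; infer_instance
  refine ⟨H, f.ker.map H.subtype, hKn, fun c hc => ?_, Subgroup.map_subtype_le _, hHN,
    ⟨(QuotientGroup.quotientMulEquivOfEq hK).trans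
      (QuotientGroup.quotientKerEquivOfSurjective f hf)⟩⟩
  refine ⟨⟨c, (le_sup_right : C ≤ H) hc⟩, ?_, rfl⟩
  have h1 : QuotientGroup.mk' (C.subgroupOf H) ⟨c, (le_sup_right : C ≤ H) hc⟩ = 1 :=
    (QuotientGroup.eq_one_iff _).2 hc
  show j _ = 1
  rw [h1, map_one]

/-- `Qd(p)` involved gives an automizer involving `SL(2,p)`. -/
theorem exists_automizer_sl2 {G : Type*} [Group G] [Finite G]
    (h : Cfsg.Involves ↥(Cfsg.qd p) G) :
    ∃ Q : Subgroup G, IsPGroup p Q ∧ ∃ (H K : Subgroup G) (_ : (K.subgroupOf H).Normal),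
      Subgroup.centralizer (Q : Set G) ≤ K ∧ K ≤ H ∧ H ≤ Subgroup.normalizer (Q : Set G) ∧
      Nonempty ((↥H ⧸ K.subgroupOf H) ≃* Matrix.SpecialLinearGroup (Fin 2) (ZMod p)) := by
  obtain ⟨K, f, hf⟩ := exists_surjective_of_involves h
  set T : Subgroup K := ((linPart p).comp f).ker with hT
  haveI : T.Normal := MonoidHom.normal_ker _
  obtain ⟨S⟩ : Nonempty (Sylow p T) := inferInstance
  set R : Subgroup K := (S : Subgroup T).map T.subtype with hR
  have hfr : Subgroup.normalizer (R : Set K) ⊔ T = ⊤ := Sylow.normalizer_sup_eq_top S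
  let M : Subgroup G := (Subgroup.normalizer (R : Set K)).map K.subtype
  have hMN : M ≤ Subgroup.normalizer ((R.map K.subtype : Subgroup G) : Set G) :=
    Subgroup.le_normalizer_map _
  let e := ((Subgroup.normalizer (R : Set K)).equivMapOfInjective K.subtype K.subtype_injective).symm
  let φ : M →* Matrix.SpecialLinearGroup (Fin 2) (ZMod p) :=
    (((linPart p).comp f).comp (Subgroup.normalizer (R : Set K)).subtype).comp e.toMonoidHom
  refine ⟨R.map K.subtype, (S.2.map _).map _, exists_automizer_section M hMN φ (fun A => ?_) ?_⟩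
  · obtain ⟨k, hk⟩ := (linPart_surjective.comp hf) A
    have h1 : A ∈ (Subgroup.normalizer (R : Set K) ⊔ T).map ((linPart p).comp f) :=
      ⟨k, hfr ▸ Subgroup.mem_top _, hk⟩
    rw [Subgroup.map_sup, hT, Subgroup.map_eq_bot_iff _ |>.2 le_rfl, sup_bot_eq] at h1
    obtain ⟨n, hn, hnA⟩ := h1
    obtain ⟨m, hm⟩ := e.surjective ⟨n, hn⟩
    exact ⟨m, by simp only [φ, MonoidHom.comp_apply, MulEquiv.coe_toMonoidHom, hm]; exact hnA⟩
  · intro m hm
    set n : ↥(Subgroup.normalizer (R : Set K)) := e m with hn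
    have hmn : ((n : K) : G) = (m : G) := congrArg Subtype.val
      (((Subgroup.normalizer (R : Set K)).equivMapOfInjective K.subtype
        K.subtype_injective).apply_symm_apply m)
    -- `f R` is all translations
    have hTV : ∀ t : T, f t ∈ (transHom p).range := fun t => by
      rw [transHom_ker_linPart]; exact t.2
    let fV : T →* (transHom p).range := (f.comp T.subtype).codRestrict _ hTV
    have hfV : Function.Surjective fV := by
      rintro ⟨y, hy⟩
      obtain ⟨k, rfl⟩ := hf y
      rw [transHom_ker_linPart] at hy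
      exact ⟨⟨k, hy⟩, rfl⟩
    have htop : ((S.mapSurjective hfV : Sylow p (transHom p).range) :
        Subgroup (transHom p).range) = ⊤ :=
      ((S.mapSurjective hfV).3 ((isPGroup_trans (p := p)).to_subgroup ⊤) le_top).symm
    rw [Sylow.coe_mapSurjective] at htop
    show linPart p (f n) = 1
    obtain ⟨A, v, hAv⟩ := exists_affine_of_mem_qd (f n).2
    have hfn : f n = ⟨affine A v, affine_mem_qd A v⟩ := Subtype.ext hAv
    rw [hfn, linPart_affine]
    apply Subtype.ext
    apply Matrix.toLin'.injective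
    refine LinearMap.ext fun w => ?_
    simp only [Matrix.toLin'_apply, Matrix.SpecialLinearGroup.coe_one, Matrix.one_mulVec]
    obtain ⟨t, ht, htw⟩ : (⟨transHom p (Multiplicative.ofAdd w), ⟨_, rfl⟩⟩ : (transHom p).range) ∈
        (S : Subgroup T).map fV := htop ▸ Subgroup.mem_top _
    have hcomm : (m : G) * ((t : K) : G) = ((t : K) : G) * (m : G) :=
      (Subgroup.mem_centralizer_iff.1 hm _ ⟨_, ⟨t, ht, rfl⟩, rfl⟩).symm
    have hcK : (n : K) * (t : K) = (t : K) * (n : K) := Subtype.ext (by
      rw [Subgroup.coe_mul, Subgroup.coe_mul, hmn]; exact hcomm)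
    have h2 := congrArg f hcK
    rw [map_mul, map_mul, show f (t : K) = transHom p (Multiplicative.ofAdd w) from
      congrArg Subtype.val htw, ← mul_inv_eq_iff_eq_mul, hfn, conj_transHom, linPart_affine] at h2
    have h3 := congrArg Subtype.val h2
    rw [coe_transHom, coe_transHom] at h3
    exact (affine_inj h3).2

end Cfsg.Agent.Lib.Quadratic
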