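import Cfsg.Agent.Lib.ConjFunctor.Basic
import Cfsg.Agent.Lib.Cores.Basic
import Mathlib.GroupTheory.SchurZassenhaus

/-!
If `N(Q)` controls strong fusion in `P`, for `Q ⊴ P` self-centralising in `P`, then there is a least
centric radical subgroup of `P`, and its normalizer controls strong fusion.
-/

set_option autoImplicit false

namespace Cfsg.Agent.Lib.Quadratic.LeastCentric

open scoped Pointwise
open Cfsg.Agent.Lib.Fusion.Alperin Cfsg.Agent.Lib.ConjFunctor.Basic

variable {G : Type*} [Group G] [Finite G] {p : ℕ} [hp : Fact p.Prime]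

omit [Finite G] in
theorem eq_one_of_coprime {x : G} (k : ℕ) (h : x ^ p ^ k = 1) (h' : ¬ p ∣ orderOf x) : x = 1 := by
  refine orderOf_eq_one_iff.1 (Nat.eq_one_of_dvd_coprimes
    (((hp.out.coprime_iff_not_dvd).2 h').pow_left k) (orderOf_dvd_of_pow_eq_one h) dvd_rfl)

/-- The elements of order prime to `p` of a group with central Sylow subgroup. -/
theorem exists_pPrime_part {C Z : Subgroup G} (hZC : Z ≤ C) (hZ : IsPGroup p Z)
    (hcomm : ∀ z ∈ Z, ∀ c ∈ C, z * c = c * z)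
    (hmax : ∀ x ∈ C, (∃ k : ℕ, x ^ p ^ k = 1) → x ∈ Z) :
    ∃ O : Subgroup G, O ≤ C ∧ (∀ x ∈ O, ¬ p ∣ orderOf x) ∧
      (∀ x ∈ C, ¬ p ∣ orderOf x → x ∈ O) ∧ ∀ x ∈ C, ∃ z ∈ Z, ∃ o ∈ O, x = z * o := by
  haveI hn : (Z.subgroupOf C).Normal := by
    refine ⟨fun z hz c => ?_⟩
    rw [Subgroup.mem_subgroupOf] at hz ⊢
    rw [Subgroup.coe_mul, Subgroup.coe_mul, Subgroup.coe_inv, ← hcomm _ hz _ c.2,
      mul_inv_cancel_right]
    exact hz
  have hZp : IsPGroup p (Z.subgroupOf C) := hZ.of_equiv (Subgroup.subgroupOfEquivOfLe hZC).symm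
  have hidx : ¬ p ∣ (Z.subgroupOf C).index := by
    intro hd
    obtain ⟨y, hy⟩ := exists_prime_orderOf_dvd_card' p (G := C ⧸ Z.subgroupOf C) hd
    obtain ⟨x, rfl⟩ := QuotientGroup.mk'_surjective _ y
    have h1 : x ^ p ∈ Z.subgroupOf C := by
      rw [← QuotientGroup.eq_one_iff, ← QuotientGroup.mk'_apply, map_pow, ← hy]
      exact pow_orderOf_eq_one _
    obtain ⟨k, hk⟩ := hZ ⟨_, Subgroup.mem_subgroupOf.1 h1⟩
    have hk' : (x : G) ^ p ^ (k + 1) = 1 := by
      rw [pow_succ', pow_mul]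
      simpa using congrArg Subtype.val hk
    have h2 : x ∈ Z.subgroupOf C := Subgroup.mem_subgroupOf.2 (hmax _ x.2 ⟨_, hk'⟩)
    rw [(QuotientGroup.eq_one_iff x).2 h2 |> fun h => (show (QuotientGroup.mk' _ x) = 1 from h),
      orderOf_one] at hy
    exact hp.out.one_lt.ne hy
  obtain ⟨m, hm⟩ := IsPGroup.iff_card.1 hZp
  have hco : Nat.Coprime (Nat.card (Z.subgroupOf C)) (Z.subgroupOf C).index :=
    hm ▸ ((hp.out.coprime_iff_not_dvd).2 hidx).pow_left m
  obtain ⟨O, hO⟩ := Subgroup.exists_right_complement'_of_coprime hco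
  have hpO : ∀ o ∈ O, ¬ p ∣ orderOf ((o : C) : G) := by
    intro o ho hd
    apply hidx
    rw [hO.symm.index_eq_card]
    refine hd.trans ?_
    rw [Subgroup.orderOf_coe, ← Subgroup.orderOf_mk o ho]
    exact orderOf_dvd_natCard _
  have hdec : ∀ x ∈ C, ∃ z ∈ Z, ∃ o ∈ O.map C.subtype, x = z * o := by
    intro x hx
    have h1 : (⟨x, hx⟩ : C) ∈ ((Z.subgroupOf C : Subgroup C) : Set C) * (O : Set C) := by
      rw [hO.mul_eq]; trivial
    obtain ⟨z, hz, o, ho, hzo⟩ := h1
    exact ⟨z, hz, o, ⟨o, ho, rfl⟩, (congrArg Subtype.val hzo).symm⟩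
  refine ⟨O.map C.subtype, Subgroup.map_subtype_le _, ?_, ?_, hdec⟩
  · rintro _ ⟨o, ho, rfl⟩
    exact hpO o ho
  · intro x hx hxo
    obtain ⟨z, hz, _, ⟨o, ho, rfl⟩, rfl⟩ := hdec x hx
    obtain ⟨k, hk⟩ := hZ ⟨z, hz⟩
    have hk' : z ^ p ^ k = 1 := by simpa using congrArg Subtype.val hk
    set w : G := C.subtype o with hw
    have hc : Commute z w := hcomm z hz _ o.2
    have hz1 : z = 1 := by
      apply eq_one_of_coprime k hk'
      intro hd
      have h1 : z ^ (orderOf (z * w) * orderOf w) = 1 := by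
        have h2 : (z * w) ^ (orderOf (z * w) * orderOf w) = 1 := by
          rw [pow_mul, pow_orderOf_eq_one, one_pow]
        have h3 : w ^ (orderOf (z * w) * orderOf w) = 1 := by
          rw [mul_comm, pow_mul, pow_orderOf_eq_one, one_pow]
        rwa [hc.mul_pow, h3, mul_one] at h2
      rcases (hp.out.dvd_mul).1 (hd.trans (orderOf_dvd_of_pow_eq_one h1)) with h | h
      · exact hxo h
      · exact hpO o ho h
    rw [hz1, one_mul]
    exact ⟨o, ho, rfl⟩

/-- The least centric radical subgroup. -/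
theorem exists_least (P : Sylow p G) (Q : Subgroup G) (hQP : Q ≤ (P : Subgroup G))
    (hPQ : (P : Subgroup G) ≤ Subgroup.normalizer (Q : Set G))
    (hcQ : (P : Subgroup G) ⊓ Subgroup.centralizer (Q : Set G) ≤ Q)
    (hctl : ∀ (A : Set G) (g : G), A ⊆ (P : Subgroup G) →
      (fun a => g * a * g⁻¹) '' A ⊆ (P : Subgroup G) →
      ∃ x ∈ Subgroup.normalizer (Q : Set G), ∀ a ∈ A, x * a * x⁻¹ = g * a * g⁻¹)
    (cr : Subgroup G → Prop)
    (hcr : ∀ Q : Subgroup G, cr Q ↔ (Q ≤ (P : Subgroup G) ∧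
      (∃ R : Sylow p ↥(Subgroup.centralizer (Q : Set G)),
        (R : Subgroup ↥(Subgroup.centralizer (Q : Set G))).map (Subgroup.centralizer (Q : Set G)).subtype = Q ⊓ Subgroup.centralizer (Q : Set G)) ∧
      ∀ X : Subgroup G, X ≤ Subgroup.normalizer (Q : Set G) →
        (∀ n ∈ Subgroup.normalizer (Q : Set G), X.map (MulAut.conj n).toMonoidHom = X) →
        Q ⊔ Subgroup.centralizer (Q : Set G) ≤ X → (∃ k : ℕ, (Q ⊔ Subgroup.centralizer (Q : Set G)).relIndex X = p ^ k) →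
        X = Q ⊔ Subgroup.centralizer (Q : Set G))) :
    ∃ Q : Subgroup G, cr Q ∧ (∀ R : Subgroup G, cr R → Q ≤ R) ∧ (∀ x ∈ (P : Subgroup G), Q.map (MulAut.conj x).toMonoidHom = Q) ∧
      ∀ A : Subgroup G, A ≤ (P : Subgroup G) → ∀ g : G, A.map (MulAut.conj g).toMonoidHom ≤ (P : Subgroup G) →
        ∃ h ∈ Subgroup.normalizer (Q : Set G), ∃ c ∈ Subgroup.centralizer (A : Set G), g = h * c := by
  classical
  set C := Subgroup.centralizer (Q : Set G) with hC
  set N := Subgroup.normalizer (Q : Set G) with hN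
  have hQN : Q ≤ N := Subgroup.le_normalizer
  have hCN : C ≤ N := Subgroup.centralizer_le_normalizer _
  have hsylN : IsSyl p (P : Subgroup G) N := (isSyl_top P).mono hPQ le_top
  have hNC : N ≤ Subgroup.normalizer (C : Set G) := by
    intro n hn
    apply mem_normalizer_of_conjS_eq
    rw [hC, conjS_centralizer, conjS_eq_of_mem_normalizer hn]
  -- all `p`-elements of `C` lie in `Q`
  have hsylC : IsSyl p ((P : Subgroup G) ⊓ C) C := by
    simpa [inf_eq_right.2 hCN] using hsylN.inf_normal hNC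
  have hZcomm : ∀ z ∈ Q ⊓ C, ∀ c ∈ C, z * c = c * z := fun z hz c hc =>
    Subgroup.mem_centralizer_iff.1 hc z hz.1
  have hpel : ∀ x ∈ C, (∃ k : ℕ, x ^ p ^ k = 1) → x ∈ Q ⊓ C := by
    rintro x hx ⟨k, hk⟩
    have hU : IsPGroup p (Subgroup.zpowers x) := by
      refine IsPGroup.of_card_dvd_pow (n := k) ?_
      rw [Nat.card_zpowers]; exact orderOf_dvd_of_pow_eq_one hk
    obtain ⟨g, hg, hle⟩ := hsylC.exists_conj_le hU (Subgroup.zpowers_le.2 hx)
    have h1 : g * x * g⁻¹ ∈ Q ⊓ C := by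
      have := hle (conj_mem_conjS (g := g) (Subgroup.mem_zpowers x))
      exact ⟨hcQ this, this.2⟩
    have h2 : g⁻¹ * (g * x * g⁻¹) * g = g * x * g⁻¹ := by
      rw [mul_assoc, hZcomm _ h1 g hg, inv_mul_cancel_left]
    rw [show g⁻¹ * (g * x * g⁻¹) * g = x by group] at h2
    rwa [h2]
  obtain ⟨O, hOC, hOord, hOmem, hOdec⟩ := exists_pPrime_part (p := p) (Z := Q ⊓ C) inf_le_right
    (P.2.to_le (inf_le_left.trans hQP)) hZcomm hpel
  have hON : O ≤ N := hOC.trans hCN
  have hNO : N ≤ Subgroup.normalizer (O : Set G) := by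
    intro n hn
    apply mem_normalizer_of_forall
    intro o ho
    refine hOmem _ ((Subgroup.mem_normalizer_iff.1 (hNC hn) o).1 (hOC ho)) ?_
    rw [show n * o * n⁻¹ = MulAut.conj n o from rfl, MulEquiv.orderOf_eq]
    exact hOord o ho
  have hpO : ∀ x ∈ O, (∃ k : ℕ, x ^ p ^ k = 1) → x = 1 := fun x hx ⟨k, hk⟩ =>
    eq_one_of_coprime k hk (hOord x hx)
  have hPel : ∀ x ∈ (P : Subgroup G), ∃ k : ℕ, x ^ p ^ k = 1 := fun x hx => by
    obtain ⟨k, hk⟩ := P.2 ⟨x, hx⟩
    exact ⟨k, by simpa using congrArg Subtype.val hk⟩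
  -- `E`: the preimage of `O_p (N/QC)`
  set M := Q ⊔ C with hM
  have hMN : M ≤ N := sup_le hQN hCN
  haveI hMn : (M.subgroupOf N).Normal := Subgroup.normal_subgroupOf_of_le_normalizer (by
    intro n hn
    apply mem_normalizer_of_conjS_eq
    rw [hM, conjS_sup, conjS_eq_of_mem_normalizer hn, conjS_eq_of_mem_normalizer (hNC hn)])
  set q := QuotientGroup.mk' (M.subgroupOf N) with hq
  set E : Subgroup G := ((Cfsg.pCore p (↥N ⧸ M.subgroupOf N)).comap q).map N.subtype with hE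
  haveI := Cores.pCore_characteristic (G := ↥N ⧸ M.subgroupOf N) p
  have hEN : E ≤ N := Subgroup.map_subtype_le _
  have hNE : N ≤ Subgroup.normalizer (E : Set G) := by
    intro n hn
    apply mem_normalizer_of_forall
    rintro _ ⟨e, he, rfl⟩
    have hn' : ((Cfsg.pCore p (↥N ⧸ M.subgroupOf N)).comap q).Normal :=
      Subgroup.Normal.comap inferInstance q
    exact ⟨_, hn'.conj_mem e he ⟨n, hn⟩, rfl⟩
  have hME : M ≤ E := fun x hx => by
    refine ⟨⟨x, hMN hx⟩, ?_, rfl⟩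
    rw [SetLike.mem_coe, Subgroup.mem_comap,
      show q ⟨x, hMN hx⟩ = 1 from (QuotientGroup.eq_one_iff _).2 hx]
    exact one_mem _
  have hEpow : ∀ x ∈ E, ∃ k : ℕ, x ^ p ^ k ∈ M := by
    rintro _ ⟨e, he, rfl⟩
    obtain ⟨k, hk⟩ := Cores.pCore_isPGroup (G := ↥N ⧸ M.subgroupOf N) p ⟨_, he⟩
    refine ⟨k, ?_⟩
    have h1 := congrArg Subtype.val hk
    rw [SubmonoidClass.coe_pow, OneMemClass.coe_one] at h1
    change q e ^ p ^ k = 1 at h1
    rw [← map_pow] at h1
    have h2 := Subgroup.mem_subgroupOf.1 ((QuotientGroup.eq_one_iff _).1 h1)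
    simpa using h2
  have hEmax : ∀ Y : Subgroup G, Y ≤ N → N ≤ Subgroup.normalizer (Y : Set G) →
      (∀ y ∈ Y, ∃ k : ℕ, y ^ p ^ k ∈ M) → Y ≤ E := by
    intro Y hY hNY hpow y hy
    haveI : (Y.subgroupOf N).Normal := Subgroup.normal_subgroupOf_of_le_normalizer hNY
    haveI : ((Y.subgroupOf N).map q).Normal :=
      Subgroup.Normal.map inferInstance q (QuotientGroup.mk'_surjective _)
    have hYp : IsPGroup p ((Y.subgroupOf N).map q) := by
      rintro ⟨_, z, hz, rfl⟩
      obtain ⟨k, hk⟩ := hpow z hz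
      refine ⟨k, Subtype.ext ?_⟩
      rw [SubmonoidClass.coe_pow, OneMemClass.coe_one, ← map_pow]
      refine (QuotientGroup.eq_one_iff _).2 (Subgroup.mem_subgroupOf.2 ?_)
      simpa using hk
    exact ⟨⟨y, hY hy⟩, Cores.le_pCore hYp ⟨⟨y, hY hy⟩, hy, rfl⟩, rfl⟩
  set Qs := (P : Subgroup G) ⊓ E with hQs
  have hQQs : Q ≤ Qs := le_inf hQP (le_sup_left.trans hME)
  have hQsP : Qs ≤ (P : Subgroup G) := inf_le_left
  set Ns := Subgroup.normalizer (Qs : Set G) with hNs
  have hPNs : (P : Subgroup G) ≤ Ns := by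
    intro x hx
    apply mem_normalizer_of_conjS_eq
    rw [hQs, conjS_inf, conjS_eq_of_mem_normalizer (Subgroup.le_normalizer hx),
      conjS_eq_of_mem_normalizer (hNE (hPQ hx))]
  have hsylE : IsSyl p Qs E := by
    simpa [inf_eq_right.2 hEN] using hsylN.inf_normal hNE
  have hCsC : Subgroup.centralizer (Qs : Set G) ≤ C :=
    Subgroup.centralizer_le (SetLike.coe_subset_coe.2 hQQs)
  have hNsN : Ns ≤ N := by
    intro n hn
    obtain ⟨x, hx, hxe⟩ := hctl (Qs : Set G) n (SetLike.coe_subset_coe.2 hQsP) (by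
      rintro _ ⟨a, ha, rfl⟩
      exact hQsP ((Subgroup.mem_normalizer_iff.1 hn a).1 ha))
    have hc : x⁻¹ * n ∈ C := hCsC (Subgroup.mem_centralizer_iff.2 fun a ha => by
      have := hxe a ha
      calc a * (x⁻¹ * n) = x⁻¹ * (x * a * x⁻¹) * n := by group
        _ = x⁻¹ * (n * a * n⁻¹) * n := by rw [this]
        _ = x⁻¹ * n * a := by group)
    simpa using mul_mem hx (hCN hc)
  have hOE : O ≤ E := hOC.trans (le_sup_right.trans hME)
  -- `O ∩ N(Q*)` centralises `Q*`
  have hOcs : ∀ o ∈ O, o ∈ Ns → o ∈ Subgroup.centralizer (Qs : Set G) := by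
    intro o ho hoN
    rw [Subgroup.mem_centralizer_iff]
    intro a ha
    have h1 : o * a * o⁻¹ * a⁻¹ ∈ Qs :=
      mul_mem ((Subgroup.mem_normalizer_iff.1 hoN a).1 ha) (inv_mem ha)
    have h2 : o * a * o⁻¹ * a⁻¹ ∈ O := by
      have h3 := mul_mem ho ((Subgroup.mem_normalizer_iff.1 (hNO (hEN ha.2)) o⁻¹).1 (inv_mem ho))
      simpa [mul_assoc] using h3
    have h4 := hpO _ h2 (hPel _ (hQsP h1))
    rw [mul_inv_eq_one, mul_inv_eq_iff_eq_mul] at h4
    exact h4.symm
  -- `M` is `Q O`, so `E ⧸ O` is a `p`-group and `E = O Q*`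
  have hMQO : M ≤ O ⊔ Q := by
    refine sup_le le_sup_right fun c hc => ?_
    obtain ⟨z, hz, o, ho, rfl⟩ := hOdec c hc
    exact mul_mem (le_sup_right (a := O) hz.1) (le_sup_left (b := Q) ho)
  have hEdec : ∀ e ∈ E, ∃ o ∈ O, ∃ a ∈ Qs, e = o * a := by
    haveI hOn : (O.subgroupOf E).Normal :=
      Subgroup.normal_subgroupOf_of_le_normalizer (hEN.trans hNO)
    set π := QuotientGroup.mk' (O.subgroupOf E) with hπ
    have hp' : IsPGroup p (↥E ⧸ O.subgroupOf E) := by
      intro y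
      obtain ⟨⟨e, he⟩, rfl⟩ := QuotientGroup.mk'_surjective _ y
      obtain ⟨k, hk⟩ := hEpow e he
      have hk' : e ^ p ^ k ∈ ((O ⊔ Q : Subgroup G) : Set G) := hMQO hk
      rw [Subgroup.coe_mul_of_right_le_normalizer_left O Q (hQN.trans hNO)] at hk'
      obtain ⟨o, ho, a, ha, hoa⟩ := hk'
      obtain ⟨j, hj⟩ := hPel a (hQP ha)
      refine ⟨k + j, ?_⟩
      have haE : a ∈ E := hME (le_sup_left (b := C) ha)
      have h1 : π (⟨e, he⟩ ^ p ^ k) = π ⟨a, haE⟩ := by
        have h2 : (⟨e, he⟩ : E) ^ p ^ k = ⟨o, hOE ho⟩ * ⟨a, haE⟩ :=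
          Subtype.ext (by simpa using hoa.symm)
        rw [h2, map_mul, show π ⟨o, hOE ho⟩ = 1 from (QuotientGroup.eq_one_iff _).2 ho, one_mul]
      rw [pow_add, pow_mul, ← map_pow, h1, ← map_pow,
        show (⟨a, haE⟩ : E) ^ p ^ j = 1 from Subtype.ext (by simpa using hj), map_one]
    intro e he
    have htop : (((hsylE.toSylowOf).mapSurjective (f := π) (QuotientGroup.mk'_surjective _) :
        Sylow p (↥E ⧸ O.subgroupOf E)) : Subgroup (↥E ⧸ O.subgroupOf E)) = ⊤ :=
      (((hsylE.toSylowOf).mapSurjective (f := π) (QuotientGroup.mk'_surjective _)).3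
        (hp'.to_subgroup ⊤) le_top).symm
    rw [Sylow.coe_mapSurjective, hsylE.coe_toSylowOf] at htop
    obtain ⟨a, ha, hae⟩ : π ⟨e, he⟩ ∈ (Qs.subgroupOf E).map π := htop ▸ Subgroup.mem_top _
    refine ⟨e * (a : G)⁻¹, ?_, a, ha, by simp⟩
    have h1 : (⟨e, he⟩ : E) * a⁻¹ ∈ O.subgroupOf E := by
      rw [← QuotientGroup.eq_one_iff, ← QuotientGroup.mk'_apply, map_mul, map_inv, hae,
        mul_inv_cancel]
    exact h1
  -- `N = O (N ∩ N(Q*))`
  have hdecN : ∀ n ∈ N, ∃ o ∈ O, ∃ m ∈ Ns, n = o * m := by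
    intro n hn
    obtain ⟨e, he, m, hm, rfl⟩ := hsylN.frattini hEN hNE hn
    obtain ⟨o, ho, a, ha, rfl⟩ := hEdec e he
    exact ⟨o, ho, a * m, mul_mem (Subgroup.le_normalizer ha) hm.2, mul_assoc _ _ _⟩
  -- control of fusion by `N(Q*)`
  have hfus : ∀ A : Subgroup G, A ≤ (P : Subgroup G) → ∀ g : G,
      conjS g A ≤ (P : Subgroup G) →
        ∃ h ∈ Ns, ∃ c ∈ Subgroup.centralizer (A : Set G), g = h * c := by
    intro A hA g hgA
    obtain ⟨n, hn, hne⟩ := hctl (A : Set G) g hA (by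
      rintro _ ⟨a, ha, rfl⟩; exact hgA (conj_mem_conjS ha))
    obtain ⟨o, ho, m, hm, rfl⟩ := hdecN n hn
    set B := conjS m A with hB
    set B' := conjS o B with hB'
    have hB'P : B' ≤ (P : Subgroup G) := by
      rintro _ ⟨_, ⟨a, ha, rfl⟩, rfl⟩
      have := hne a ha
      simp only [MulEquiv.coe_toMonoidHom, MulAut.conj_apply]
      rw [show o * (m * a * m⁻¹) * o⁻¹ = o * m * a * (o * m)⁻¹ by group, this]
      exact hgA (conj_mem_conjS ha)
    have hBNs : B ≤ Ns := by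
      rintro _ ⟨a, ha, rfl⟩
      exact mul_mem (mul_mem hm (hPNs (hA ha))) (inv_mem hm)
    set O2 := O ⊓ Ns with hO2
    have hNsO2 : Ns ≤ Subgroup.normalizer (O2 : Set G) := by
      intro x hx
      apply mem_normalizer_of_conjS_eq
      rw [hO2, conjS_inf, conjS_eq_of_mem_normalizer (hNO (hNsN hx)),
        conjS_eq_of_mem_normalizer (Subgroup.le_normalizer hx)]
    have hB'Ns : B' ≤ Ns := hB'P.trans hPNs
    have hdiff : ∀ b ∈ B, o * b * o⁻¹ * b⁻¹ ∈ O2 := by
      intro b hb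
      refine Subgroup.mem_inf.2 ⟨?_, mul_mem (hB'Ns (conj_mem_conjS hb)) (inv_mem (hBNs hb))⟩
      have h3 := mul_mem ho ((Subgroup.mem_normalizer_iff.1 (hNO (hNsN (hBNs hb))) o⁻¹).1
        (inv_mem ho))
      simpa [mul_assoc] using h3
    set L := O2 ⊔ B' with hL
    have hBp : IsPGroup p B := isPGroup_conjS (P.2.to_le hA)
    have hB'p : IsPGroup p B' := isPGroup_conjS hBp
    have hBL : B ≤ L := by
      intro b hb
      rw [show b = (o * b * o⁻¹ * b⁻¹)⁻¹ * (o * b * o⁻¹) by group]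
      exact mul_mem (le_sup_left (b := B') (inv_mem (hdiff b hb)))
        (le_sup_right (a := O2) (conj_mem_conjS hb))
    -- `B'` is Sylow in `L = O2 B'`
    have hsylL : IsSyl p B' L := by
      refine isSyl_of_maximal hB'p le_sup_right fun U hU hUL hle => le_antisymm ?_ hle
      intro u hu
      have hu' : u ∈ ((O2 ⊔ B' : Subgroup G) : Set G) := hUL hu
      rw [Subgroup.coe_mul_of_right_le_normalizer_left O2 B' (hB'Ns.trans hNsO2)] at hu'
      obtain ⟨d, hd, b, hb, rfl⟩ := hu'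
      have hdU : d ∈ U := by
        have := mul_mem hu (inv_mem (hle hb))
        rwa [mul_inv_cancel_right] at this
      obtain ⟨k, hk⟩ := hU ⟨d, hdU⟩
      simpa only [hpO d hd.1 ⟨k, by simpa using congrArg Subtype.val hk⟩, one_mul] using SetLike.mem_coe.1 hb
    obtain ⟨l, hl, hlB⟩ := hsylL.exists_conj_le hBp hBL
    have hl' : l ∈ ((B' ⊔ O2 : Subgroup G) : Set G) := by rw [sup_comm]; exact hl
    rw [Subgroup.coe_mul_of_left_le_normalizer_right B' O2 (hB'Ns.trans hNsO2)] at hl'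
    obtain ⟨b', hb', d, hd, rfl⟩ := hl'
    have hd' : ∀ b ∈ B, d * b * d⁻¹ = o * b * o⁻¹ := by
      intro b hb
      have h1 : d * b * d⁻¹ ∈ B' := by
        have h2 := mul_mem (mul_mem (inv_mem (show b' ∈ B' from hb')) (hlB (conj_mem_conjS hb))) hb'
        rwa [show b'⁻¹ * (b' * d * b * (b' * d)⁻¹) * b' = d * b * d⁻¹ by group] at h2
      have h3 : d * b * d⁻¹ * (o * b * o⁻¹)⁻¹ ∈ B' := mul_mem h1 (inv_mem (conj_mem_conjS hb))
      have h4 : d * b * d⁻¹ * (o * b * o⁻¹)⁻¹ ∈ O := by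
        have hbN : b ∈ N := hNsN (hBNs hb)
        have h5 : ∀ x ∈ O, x * b * x⁻¹ * b⁻¹ ∈ O := fun x hx => by
          have h6 := mul_mem hx ((Subgroup.mem_normalizer_iff.1 (hNO hbN) x⁻¹).1 (inv_mem hx))
          simpa [mul_assoc] using h6
        rw [show d * b * d⁻¹ * (o * b * o⁻¹)⁻¹ =
          (d * b * d⁻¹ * b⁻¹) * (o * b * o⁻¹ * b⁻¹)⁻¹ by group]
        exact mul_mem (h5 d hd.1) (inv_mem (h5 o ho))
      exact mul_inv_eq_one.1 (hpO _ h4 (hPel _ (hB'P h3)))
    refine ⟨d * m, mul_mem hd.2 hm, (d * m)⁻¹ * g, ?_, by rw [mul_inv_cancel_left]⟩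
    rw [Subgroup.mem_centralizer_iff]
    intro a ha
    have h1 : d * m * a * (d * m)⁻¹ = g * a * g⁻¹ := by
      rw [show d * m * a * (d * m)⁻¹ = d * (m * a * m⁻¹) * d⁻¹ by group,
        hd' _ (conj_mem_conjS ha), ← hne a ha]
      group
    calc a * ((d * m)⁻¹ * g) = (d * m)⁻¹ * (d * m * a * (d * m)⁻¹) * g := by group
      _ = (d * m)⁻¹ * (g * a * g⁻¹) * g := by rw [h1]
      _ = (d * m)⁻¹ * g * a := by group
  refine ⟨Qs, (hcr Qs).2 ⟨hQsP, ?_, ?_⟩, ?_, ?_, hfus⟩
  · -- centric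
    set D := Subgroup.centralizer (Qs : Set G) with hD
    obtain ⟨R⟩ : Nonempty (Sylow p D) := inferInstance
    refine ⟨R, le_antisymm ?_ ?_⟩
    · rintro _ ⟨r, hr, rfl⟩
      obtain ⟨k, hk⟩ := R.2 ⟨r, hr⟩
      have := hpel _ (hCsC r.2) ⟨k, by
        have h1 := congrArg (fun z : (R : Subgroup D) => ((z : D) : G)) hk
        simpa using h1⟩
      exact ⟨hQQs this.1, r.2⟩
    · rintro x ⟨hxQ, hxD⟩
      haveI hn : ((Qs ⊓ D).subgroupOf D).Normal := by
        refine ⟨fun z hz c => ?_⟩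
        rw [Subgroup.mem_subgroupOf] at hz ⊢
        rw [Subgroup.coe_mul, Subgroup.coe_mul, Subgroup.coe_inv,
          ← Subgroup.mem_centralizer_iff.1 c.2 _ hz.1, mul_inv_cancel_right]
        exact hz
      have hle : (Qs ⊓ D).subgroupOf D ≤ (R : Subgroup D) :=
        ((P.2.to_le (inf_le_left.trans hQsP)).of_equiv
          (Subgroup.subgroupOfEquivOfLe inf_le_right).symm).le_sylow_of_normal R
      exact ⟨⟨x, hxD⟩, hle ⟨hxQ, hxD⟩, rfl⟩
  · -- radical
    intro X hXN hXinv hXge ⟨k, hk⟩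
    refine le_antisymm ?_ hXge
    set R0 := Qs ⊔ Subgroup.centralizer (Qs : Set G) with hR0
    have hXn : X ≤ Subgroup.normalizer (R0 : Set G) := by
      intro x hx
      apply mem_normalizer_of_conjS_eq
      rw [hR0, conjS_sup, conjS_centralizer, conjS_eq_of_mem_normalizer (hXN hx)]
    haveI hR0n : (R0.subgroupOf X).Normal := Subgroup.normal_subgroupOf_of_le_normalizer hXn
    have hR0E : R0 ≤ E := sup_le inf_le_right (hCsC.trans (le_sup_right.trans hME))
    have hXpow : ∀ x ∈ X, x ^ p ^ k ∈ E := by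
      intro x hx
      apply hR0E
      have := Subgroup.pow_index_mem (R0.subgroupOf X) ⟨x, hx⟩
      rw [show (R0.subgroupOf X).index = p ^ k from hk] at this
      simpa [Subgroup.mem_subgroupOf] using this
    have hY : X ⊔ E ≤ E := by
      refine hEmax _ (sup_le (hXN.trans hNsN) hEN) ?_ ?_
      · intro n hn
        obtain ⟨o, ho, m, hm, rfl⟩ := hdecN n hn
        apply mem_normalizer_of_forall
        intro y hy
        have h1 : m * y * m⁻¹ ∈ X ⊔ E := by
          have h2 : conjS m (X ⊔ E) = X ⊔ E := by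
            rw [conjS_sup, conjS_eq_of_mem_normalizer (hNE (hNsN hm))]
            exact congrArg (· ⊔ E) (hXinv m hm)
          rw [← h2]; exact conj_mem_conjS hy
        have hoY : o ∈ X ⊔ E := le_sup_right (a := X) (hOE ho)
        rw [show o * m * y * (o * m)⁻¹ = o * (m * y * m⁻¹) * o⁻¹ by group]
        exact mul_mem (mul_mem hoY h1) (inv_mem hoY)
      · intro y hy
        have hy' : y ∈ ((X ⊔ E : Subgroup G) : Set G) := hy
        rw [Subgroup.coe_mul_of_left_le_normalizer_right X E ((hXN.trans hNsN).trans hNE)] at hy'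
        obtain ⟨x, hx, e, he, rfl⟩ := hy'
        haveI : (E.subgroupOf N).Normal := Subgroup.normal_subgroupOf_of_le_normalizer hNE
        have hxN : x ∈ N := hNsN (hXN hx)
        set π := QuotientGroup.mk' (E.subgroupOf N)
        have h1 : π ((⟨x, hxN⟩ * ⟨e, hEN he⟩ : N) ^ p ^ k) = 1 := by
          rw [map_pow, map_mul, show π ⟨e, hEN he⟩ = 1 from (QuotientGroup.eq_one_iff _).2 he,
            mul_one, ← map_pow]
          exact (QuotientGroup.eq_one_iff _).2 (Subgroup.mem_subgroupOf.2 (by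
            simpa using hXpow x hx))
        have h2 : (x * e) ^ p ^ k ∈ E := by
          simpa using Subgroup.mem_subgroupOf.1 ((QuotientGroup.eq_one_iff _).1 h1)
        obtain ⟨j, hj⟩ := hEpow _ h2
        exact ⟨k + j, by rwa [pow_add, pow_mul]⟩
    intro x hx
    obtain ⟨o, ho, a, ha, rfl⟩ := hEdec x (hY (le_sup_left (b := E) hx))
    have hoN : o ∈ Ns := by
      have := mul_mem (hXN hx) (inv_mem (Subgroup.le_normalizer ha : a ∈ Ns))
      rwa [mul_inv_cancel_right] at this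
    exact mul_mem (le_sup_right (a := Qs) (hOcs o ho hoN)) (le_sup_left (b := Subgroup.centralizer (Qs : Set G)) ha)
  · -- least
    intro R hR
    obtain ⟨hRP, ⟨RS, hRS⟩, hrad⟩ := (hcr R).1 hR
    have hsylD := isSyl_map_sylow RS
    rw [hRS] at hsylD
    set D := Subgroup.centralizer (R : Set G) with hD
    set NR := Subgroup.normalizer (R : Set G) with hNR
    set W := Qs ⊓ NR with hW
    have hRD : NR ≤ Subgroup.normalizer (D : Set G) := by
      intro n hn
      apply mem_normalizer_of_conjS_eq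
      rw [hD, conjS_centralizer, conjS_eq_of_mem_normalizer hn]
    have hRDn : NR ≤ Subgroup.normalizer ((R ⊔ D : Subgroup G) : Set G) := by
      intro n hn
      apply mem_normalizer_of_conjS_eq
      rw [conjS_sup, conjS_eq_of_mem_normalizer hn, conjS_eq_of_mem_normalizer (hRD hn)]
    set X := W ⊔ (R ⊔ D) with hX
    have hDN : D ≤ NR := Subgroup.centralizer_le_normalizer _
    have hXN : X ≤ NR := sup_le inf_le_right (sup_le Subgroup.le_normalizer hDN)
    have hXinv : ∀ n ∈ NR, X.map (MulAut.conj n).toMonoidHom = X := by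
      intro n hn
      apply conjS_eq_of_mem_normalizer
      apply mem_normalizer_of_forall
      intro x hx
      obtain ⟨h, hh, c, hc, rfl⟩ := hfus R hRP n (by
        rw [conjS_eq_of_mem_normalizer hn]; exact hRP)
      have hcX : c ∈ X := le_sup_right (a := W) (le_sup_right (a := R) hc)
      have hhR : h ∈ NR := by
        have := mul_mem hn (inv_mem (hDN hc))
        rwa [mul_inv_cancel_right] at this
      have h2 : conjS h X = X := by
        rw [hX, hW, conjS_sup, conjS_inf, conjS_eq_of_mem_normalizer hh,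
          conjS_eq_of_mem_normalizer (Subgroup.le_normalizer hhR : h ∈ Subgroup.normalizer (NR : Set G)),
          conjS_eq_of_mem_normalizer (hRDn hhR)]
      have h1 : c * x * c⁻¹ ∈ X := mul_mem (mul_mem hcX hx) (inv_mem hcX)
      rw [show h * c * x * (h * c)⁻¹ = h * (c * x * c⁻¹) * h⁻¹ by group, ← h2]
      exact conj_mem_conjS h1
    haveI hRDX : ((R ⊔ D).subgroupOf X).Normal :=
      Subgroup.normal_subgroupOf_of_le_normalizer (hXN.trans hRDn)
    have hidx : ∃ k : ℕ, (R ⊔ D).relIndex X = p ^ k := by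
      have hpq : IsPGroup p (↥X ⧸ (R ⊔ D).subgroupOf X) := by
        intro y
        obtain ⟨⟨x, hx⟩, rfl⟩ := QuotientGroup.mk'_surjective _ y
        have hx' : x ∈ ((W ⊔ (R ⊔ D) : Subgroup G) : Set G) := hx
        rw [Subgroup.coe_mul_of_left_le_normalizer_right W (R ⊔ D) (inf_le_right.trans hRDn)] at hx'
        obtain ⟨w, hw, e, he, rfl⟩ := hx'
        obtain ⟨j, hj⟩ := hPel w (hQsP hw.1)
        refine ⟨j, ?_⟩
        have hwX : w ∈ X := le_sup_left (b := R ⊔ D) hw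
        have heX : e ∈ X := le_sup_right (a := W) he
        rw [show (⟨w * e, hx⟩ : X) = ⟨w, hwX⟩ * ⟨e, heX⟩ from rfl, map_mul,
          show QuotientGroup.mk' ((R ⊔ D).subgroupOf X) ⟨e, heX⟩ = 1 from
            (QuotientGroup.eq_one_iff _).2 he, mul_one, ← map_pow,
          show (⟨w, hwX⟩ : X) ^ p ^ j = 1 from Subtype.ext (by simpa using hj), map_one]
      obtain ⟨k, hk⟩ := IsPGroup.iff_card.1 hpq
      exact ⟨k, hk⟩
    have hXeq : X = R ⊔ D := hrad X hXN hXinv le_sup_right hidx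
    have hWR : W ≤ R := by
      intro w hw
      have hw' : w ∈ ((R ⊔ D : Subgroup G) : Set G) := hXeq ▸ (le_sup_left (b := R ⊔ D) hw)
      rw [Subgroup.coe_mul_of_left_le_normalizer_right R D (Subgroup.le_normalizer.trans hRD)] at hw'
      obtain ⟨r, hr, c, hc, rfl⟩ := hw'
      have hcP : c ∈ (P : Subgroup G) := by
        have := mul_mem (inv_mem (hRP hr)) (hQsP hw.1)
        rwa [inv_mul_cancel_left] at this
      have heq : (P : Subgroup G) ⊓ D = R ⊓ D :=
        hsylD.eq_of_le (P.2.to_le inf_le_left) inf_le_right (inf_le_inf_right _ hRP)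
      exact mul_mem hr (heq.le ⟨hcP, hc⟩).1
    by_contra hle
    have hlt : R < R ⊔ Qs := lt_of_le_of_ne le_sup_left fun h => hle (by
      rw [h]; exact le_sup_right)
    have hgr := lt_inf_normalizer (P.2.to_le (sup_le hRP hQsP)) hlt
    apply hgr.not_ge
    intro x hx
    have hx' : x ∈ ((R ⊔ Qs : Subgroup G) : Set G) := hx.1
    rw [Subgroup.coe_mul_of_left_le_normalizer_right R Qs (hRP.trans hPNs)] at hx'
    obtain ⟨r, hr, a, ha, rfl⟩ := hx'
    have haN : a ∈ NR := by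
      have := mul_mem (inv_mem (Subgroup.le_normalizer hr : r ∈ NR)) hx.2
      rwa [inv_mul_cancel_left] at this
    exact mul_mem hr (hWR ⟨ha, haN⟩)
  · intro x hx
    exact conjS_eq_of_mem_normalizer (hPNs hx)

end Cfsg.Agent.Lib.Quadratic.LeastCentric
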