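import Cfsg.Agent.Lib.Quadratic.Pair
import Mathlib.LinearAlgebra.Dual.Lemmas

/-!
A pair of quadratic generators also yields a natural `SL(2,p)`-submodule.
-/

namespace Cfsg.Agent.Lib.Quadratic

open Cfsg.Agent.Lib.Dickson Matrix
open Cfsg.Agent.Lib.PLocal.SLTwo (up lo up_add lo_add up_zero lo_zero val_mul closure_pair_eq_top
  up_natCast lo_natCast)

local notation "M2" => Matrix (Fin 2) (Fin 2)

theorem mul_add_mul_of_nilpotent {L : Type*} [Field L] {u w : M2 L}
    (hu : u.trace = 0) (hw : w.trace = 0) : u * w + w * u = (u * w).trace • 1 := by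
  rw [Matrix.trace_fin_two] at hu hw
  have h1 : u 1 1 = -u 0 0 := by linear_combination hu
  have h2 : w 1 1 = -w 0 0 := by linear_combination hw
  ext i j
  fin_cases i <;> fin_cases j <;>
    simp [Matrix.mul_apply, Matrix.trace_fin_two, Fin.sum_univ_two, h1, h2] <;> ring

/-- Every injective homomorphism `SL(2,p) → SL(2,L)` is the natural one in a suitable basis. -/
theorem exists_intertwiner {L : Type*} [Field L] [Finite L] {p : ℕ} [Fact p.Prime] [CharP L p]
    (hp : p ≠ 2)
    (ψ : Matrix.SpecialLinearGroup (Fin 2) (ZMod p) →* Matrix.SpecialLinearGroup (Fin 2) L)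
    (hψ : Function.Injective ψ) :
    ∃ Q : M2 L, Q ≠ 0 ∧ ∀ M, (ψ M).1 * Q = Q * M.1.map (ZMod.castHom dvd_rfl L) := by
  have h2 : (2 : L) ≠ 0 := two_ne_zero_char hp
  have h2p : (2 : ZMod p) ≠ 0 := two_ne_zero_char hp
  set x := ψ (up 1) with hx
  set y := ψ (lo 1) with hy
  have hxp : x ^ p = 1 := by
    rw [hx, ← map_pow, ← up_natCast, ZMod.natCast_self, up_zero, map_one]
  have hyp : y ^ p = 1 := by
    rw [hy, ← map_pow, ← lo_natCast, ZMod.natCast_self, lo_zero, map_one]
  have htx := trace_of_pow_char h2 hxp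
  have hty := trace_of_pow_char h2 hyp
  set u := x.1 - 1 with hu
  set w := y.1 - 1 with hw
  have hu0 : u * u = 0 := sub_one_sq_eq_zero htx
  have hw0 : w * w = 0 := sub_one_sq_eq_zero hty
  have hut : u.trace = 0 := by rw [hu, Matrix.trace_sub, htx]; simp
  have hwt : w.trace = 0 := by rw [hw, Matrix.trace_sub, hty]; simp
  -- the Weyl element has order four
  let s : Matrix.SpecialLinearGroup (Fin 2) (ZMod p) := up 1 * lo (-1) * up 1
  have hs : s * s = Dickson.negI := by
    apply Subtype.ext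
    simp only [s, val_mul]
    ext i j
    fin_cases i <;> fin_cases j <;>
      simp [coe_up, coe_lo, Dickson.negI, Matrix.mul_apply, Fin.sum_univ_two]
  have hsT : Matrix.trace (ψ s).1 = 0 := by
    have hinv : ((ψ s * ψ s : Matrix.SpecialLinearGroup (Fin 2) L) : M2 L) = -1 := by
      rw [← map_mul, hs]
      refine Linear.eq_neg_one_of_mul_self h2 ?_ ?_
      · intro h
        rw [map_eq_one_iff ψ hψ] at h
        have := congrArg (fun z : Matrix.SpecialLinearGroup (Fin 2) (ZMod p) =>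
          (z : M2 (ZMod p)) 0 0) h
        simp [Dickson.negI] at this
        exact h2p (by linear_combination (-1) * this)
      · rw [← map_mul, Dickson.negI_mul_self, map_one]
    rw [Matrix.SpecialLinearGroup.coe_mul, Linear.sl2_mul_self] at hinv
    have h3 : Matrix.trace (ψ s).1 • (ψ s).1 = 0 := by
      have := congrArg (· + 1) hinv
      simpa using this
    rcases smul_eq_zero.1 h3 with h | h
    · exact h
    · rw [h]; simp
  have hxinv : ∀ z : Matrix.SpecialLinearGroup (Fin 2) L, (z.1 - 1) * (z.1 - 1) = 0 →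
      (z⁻¹ : Matrix.SpecialLinearGroup (Fin 2) L).1 = 1 - (z.1 - 1) := by
    intro z hz
    have h1 : z.1 * (1 - (z.1 - 1)) = 1 := by
      calc z.1 * (1 - (z.1 - 1)) = 1 - (z.1 - 1) * (z.1 - 1) := by noncomm_ring
        _ = 1 := by rw [hz, sub_zero]
    calc (z⁻¹ : Matrix.SpecialLinearGroup (Fin 2) L).1
        = (z⁻¹ : Matrix.SpecialLinearGroup (Fin 2) L).1 * (z.1 * (1 - (z.1 - 1))) := by
          rw [h1, mul_one]
      _ = 1 - (z.1 - 1) := by rw [← mul_assoc, ← val_mul, inv_mul_cancel]; simp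
  have huw : (u * w).trace = 1 := by
    have hval : (ψ s).1 = x.1 * (1 - w) * x.1 := by
      simp only [s, map_mul, val_mul, ← lo_inv, map_inv, ← hx, ← hy, hxinv y hw0, ← hw]
    rw [hval, Matrix.trace_mul_comm, ← mul_assoc, show x.1 = 1 + u by rw [hu]; abel] at hsT
    have e : (1 + u) * (1 + u) * (1 - w) = 1 + 2 • u - w - 2 • (u * w) := by
      calc (1 + u) * (1 + u) * (1 - w)
          = 1 + 2 • u - w - 2 • (u * w) + (u * u) * (1 - w) := by noncomm_ring
        _ = _ := by rw [hu0, zero_mul, add_zero]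
    rw [e, Matrix.trace_sub, Matrix.trace_sub, Matrix.trace_add, Matrix.trace_smul,
      Matrix.trace_smul, hut, hwt] at hsT
    simp at hsT
    have h5 : (2 : L) * ((u * w).trace - 1) = 0 := by linear_combination (-1) * hsT
    exact sub_eq_zero.1 ((mul_eq_zero.1 h5).resolve_left h2)
  have hc : u * w + w * u = 1 := by rw [mul_add_mul_of_nilpotent hut hwt, huw, one_smul]
  obtain ⟨v, hv⟩ : ∃ v : Fin 2 → L, u *ᵥ v ≠ 0 := by
    by_contra hall
    push Not at hall
    have : u = 0 := by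
      ext i j
      have := congrFun (hall (Pi.single j 1)) i
      simpa [Matrix.mulVec, dotProduct, Pi.single_apply] using this
    rw [this, zero_mul, mul_zero, add_zero] at hc
    simpa using congrFun (congrFun hc 0) 0
  set e1 := u *ᵥ v with he1
  set e2 := w *ᵥ e1 with he2
  have hu1 : u *ᵥ e1 = 0 := by rw [he1, Matrix.mulVec_mulVec, hu0, Matrix.zero_mulVec]
  have hw2 : w *ᵥ e2 = 0 := by rw [he2, Matrix.mulVec_mulVec, hw0, Matrix.zero_mulVec]
  have hu2 : u *ᵥ e2 = e1 := by
    have : (u * w + w * u) *ᵥ e1 = e1 := by rw [hc, Matrix.one_mulVec]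
    rwa [Matrix.add_mulVec, ← Matrix.mulVec_mulVec, ← Matrix.mulVec_mulVec, hu1,
      Matrix.mulVec_zero, add_zero, ← he2] at this
  let Q : M2 L := Matrix.of fun i j => if j = 0 then e1 i else e2 i
  have hQ : Q ≠ 0 := by
    intro h
    apply hv
    ext i
    simpa [Q] using congrFun (congrFun h i) 0
  let f := ZMod.castHom dvd_rfl L (m := p)
  let S : Subgroup (Matrix.SpecialLinearGroup (Fin 2) (ZMod p)) :=
    { carrier := {M | (ψ M).1 * Q = Q * M.1.map f}
      one_mem' := by simp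
      mul_mem' := by
        intro M N hM hN
        simp only [Set.mem_setOf_eq] at *
        rw [map_mul, val_mul, val_mul, Matrix.map_mul, Matrix.mul_assoc, hN, ← Matrix.mul_assoc,
          hM, Matrix.mul_assoc]
      inv_mem' := by
        intro M hM
        simp only [Set.mem_setOf_eq] at *
        calc (ψ M⁻¹).1 * Q = (ψ M⁻¹).1 * (Q * ((M * M⁻¹).1.map f)) := by simp
          _ = (ψ M⁻¹).1 * (Q * M.1.map f) * M⁻¹.1.map f := by
            rw [val_mul, Matrix.map_mul, Matrix.mul_assoc, Matrix.mul_assoc]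
          _ = Q * M⁻¹.1.map f := by
            rw [← hM, ← Matrix.mul_assoc, ← val_mul, ← map_mul, inv_mul_cancel]
            simp }
  refine ⟨Q, hQ, fun M => ?_⟩
  have hS : Subgroup.closure ({up 1, lo 1} : Set (Matrix.SpecialLinearGroup (Fin 2) (ZMod p))) ≤ S := by
    rw [Subgroup.closure_le]
    rintro M (rfl | rfl)
    · show x.1 * Q = Q * _
      rw [show x.1 = 1 + u by rw [hu]; abel]
      ext i j
      have h1 : ((1 + u) * Q) i j = Q i j + (u *ᵥ fun k => Q k j) i := by
        rw [Matrix.add_mul, Matrix.one_mul]; rfl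
      rw [h1]
      fin_cases j
      · simp [Q, hu1, coe_up, Matrix.mul_apply, Fin.sum_univ_two]
      · simp [Q, hu2, coe_up, Matrix.mul_apply, Fin.sum_univ_two, add_comm]
    · show y.1 * Q = Q * _
      rw [show y.1 = 1 + w by rw [hw]; abel]
      ext i j
      have h1 : ((1 + w) * Q) i j = Q i j + (w *ᵥ fun k => Q k j) i := by
        rw [Matrix.add_mul, Matrix.one_mul]; rfl
      rw [h1]
      fin_cases j
      · simp [Q, ← he2, coe_lo, Matrix.mul_apply, Fin.sum_univ_two]
      · simp [Q, hw2, coe_lo, Matrix.mul_apply, Fin.sum_univ_two]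
  exact hS (closure_pair_eq_top (p := p) ▸ Subgroup.mem_top M)

/-- Two quadratic generators over `GF(p)`: a subgroup acting as `SL(2,p)` on a natural submodule. -/
theorem exists_natural {p : ℕ} [Fact p.Prime] (hp : p ≠ 2) {ι : Type*} [Fintype ι] [DecidableEq ι]
    [Nonempty ι] {Γ : Type*} [Group Γ] [Finite Γ] (ρ : Γ →* Matrix ι ι (ZMod p))
    (hρ : Function.Injective ρ) {a b : Γ} (hgen : Subgroup.closure {a, b} = ⊤)
    (hu : (ρ a - 1) * (ρ a - 1) = 0) (hw : (ρ b - 1) * (ρ b - 1) = 0) (hnp : ¬ IsPGroup p Γ) :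
    ∃ (K : Subgroup Γ) (σ : K →* Matrix.SpecialLinearGroup (Fin 2) (ZMod p))
      (P : Matrix ι (Fin 2) (ZMod p)), Function.Surjective σ ∧
      (∀ g : K, ρ g * P = P * (σ g).1) ∧ ∀ x : Fin 2 → ZMod p, P *ᵥ x = 0 → x = 0 := by
  classical
  obtain ⟨L, hLf, hLfin, hLc, hLa, l, hl, φ, ha, hb, P, hP, hPinj⟩ :=
    exists_sl2_hom ρ hρ hgen hu hw hnp
  have hrange : φ.range = Subgroup.closure {up 1, lo l} := by
    rw [MonoidHom.range_eq_map, ← hgen, MonoidHom.map_closure, Set.image_pair, ha, hb]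
  obtain ⟨ψ, hψ, hle⟩ := hasSL2Copy_of_sylow hp φ.range
    (by rw [hrange]; exact one_lt_card_sylow_range hl)
  obtain ⟨Q, hQ0, hQ⟩ := exists_intertwiner hp ψ hψ
  have hf : ZMod.castHom dvd_rfl L = algebraMap (ZMod p) L := RingHom.ext_zmod _ _
  let σ : ψ.range.comap φ →* Matrix.SpecialLinearGroup (Fin 2) (ZMod p) :=
    (MonoidHom.ofInjective hψ).symm.toMonoidHom.comp
      ((φ.comp (ψ.range.comap φ).subtype).codRestrict ψ.range fun x => x.2)
  have hσ : ∀ g, ψ (σ g) = φ g := fun g => MonoidHom.apply_ofInjective_symm hψ _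
  have hsurj : Function.Surjective σ := by
    refine (MonoidHom.ofInjective hψ).symm.surjective.comp ?_
    rintro ⟨y, hy⟩
    obtain ⟨g, rfl⟩ := hle hy
    exact ⟨⟨g, hy⟩, rfl⟩
  have hPQ : P * Q ≠ 0 := by
    intro h
    apply hQ0
    ext i j
    have := hPinj (fun k => Q k j) (by
      ext i'; exact congrFun (congrFun h i') j)
    exact congrFun this i
  set R := P * Q with hR
  obtain ⟨i₀, j₀, hij⟩ : ∃ i j, R i j ≠ 0 := by
    by_contra hall
    push Not at hall
    exact hPQ (Matrix.ext hall)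
  obtain ⟨lam, hlam⟩ : ∃ lam : L →ₗ[ZMod p] ZMod p, lam (R i₀ j₀) ≠ 0 := by
    by_contra hall
    push Not at hall
    exact hij ((Module.forall_dual_apply_eq_zero_iff (ZMod p) _).1 hall)
  let P0 : Matrix ι (Fin 2) (ZMod p) := R.map lam
  have hint : ∀ g : ψ.range.comap φ, ρ g * P0 = P0 * (σ g).1 := by
    intro g
    have h1 : (ρ g).map (algebraMap (ZMod p) L) * R =
        R * (σ g).1.map (algebraMap (ZMod p) L) := by
      rw [hR, ← Matrix.mul_assoc, hP, Matrix.mul_assoc, ← hσ, hQ, hf, ← Matrix.mul_assoc]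
    ext i j
    have h2 := congrArg lam (congrFun (congrFun h1 i) j)
    simp only [Matrix.mul_apply (M := (ρ (g : Γ)).map (algebraMap (ZMod p) L)),
      Matrix.mul_apply (N := (σ g).1.map (algebraMap (ZMod p) L)), map_sum, Matrix.map_apply,
      ← Algebra.smul_def, map_smul, smul_eq_mul] at h2
    simp only [Matrix.mul_apply, P0, Matrix.map_apply]
    rw [h2]
    refine Finset.sum_congr rfl fun k _ => ?_
    rw [← Algebra.commutes, ← Algebra.smul_def, map_smul, smul_eq_mul, mul_comm]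
  refine ⟨_, σ, P0, hsurj, hint, fun x hx => ?_⟩
  by_contra hx0
  have hall : ∀ g, P0 *ᵥ ((σ g).1 *ᵥ x) = 0 := fun g => by
    rw [Matrix.mulVec_mulVec, ← hint, ← Matrix.mulVec_mulVec, hx, Matrix.mulVec_zero]
  -- the vectors `x`, `up 1 x`, `lo 1 x` span
  obtain ⟨g1, hg1⟩ := hsurj (up 1)
  obtain ⟨g2, hg2⟩ := hsurj (lo 1)
  have h1 := hall g1
  have h2 := hall g2
  rw [hg1] at h1
  rw [hg2] at h2
  have hcol : ∀ i, P0 i 0 * x 0 + P0 i 1 * x 1 = 0 ∧ P0 i 0 * x 1 = 0 ∧ P0 i 1 * x 0 = 0 := by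
    intro i
    have e0 := congrFun hx i
    have e1 := congrFun h1 i
    have e2 := congrFun h2 i
    simp [coe_up, coe_lo, Matrix.mulVec, dotProduct, Fin.sum_univ_two] at e0 e1 e2
    exact ⟨e0, by linear_combination e1 - e0, by linear_combination e2 - e0⟩
  apply hlam
  show P0 i₀ j₀ = 0
  obtain ⟨c0, c1, c2⟩ := hcol i₀
  by_cases hx0' : x 0 = 0
  · have hx1' : x 1 ≠ 0 := fun h => hx0 (by ext i; fin_cases i <;> assumption)
    rw [hx0', mul_zero, zero_add] at c0
    fin_cases j₀
    · exact (mul_eq_zero.1 c1).resolve_right hx1'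
    · exact (mul_eq_zero.1 c0).resolve_right hx1'
  · have hz : P0 i₀ 1 = 0 := (mul_eq_zero.1 c2).resolve_right hx0'
    rw [hz, zero_mul, add_zero] at c0
    fin_cases j₀
    · exact (mul_eq_zero.1 c0).resolve_right hx0'
    · exact hz

end Cfsg.Agent.Lib.Quadratic
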