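import Cfsg.Agent.Lib.Quadratic.Involves
import Cfsg.Agent.Lib.Linear.SL2Sylow2
import Cfsg.Agent.Lib.LieTwisted.ReeGroup
import Cfsg.Prelude.Def_LieTwisted

/-!
Groups with no quadratic action on a faithful irreducible module in odd characteristic: those whose
2-subgroups have only commutative images in `SL(2,p)`; PSL(2,q), q odd, and the small Ree groups.
-/

namespace Cfsg.Agent.Lib.Quadratic

open scoped commutatorElement
open Matrix

variable {p : ℕ} [Fact p.Prime]

/-- Every 2-group with an embedding in `Γ` has only commutative images in `SL(2,p)`. -/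
def TwoImagesComm (p : ℕ) (Γ : Type*) [Group Γ] : Prop :=
  ∀ Q : Subgroup Γ, IsPGroup 2 Q → ∀ f : Q →* Matrix.SpecialLinearGroup (Fin 2) (ZMod p),
    ∀ x y : Q, f x * f y = f y * f x

theorem sl_sq_cases {F : Type*} [Field F] (h2 : (2 : F) ≠ 0)
    {g : Matrix.SpecialLinearGroup (Fin 2) F} (h : g * g = 1) :
    g = 1 ∨ (g : Matrix (Fin 2) (Fin 2) F) = -1 := by
  rcases eq_or_ne g 1 with h1 | h1
  · exact Or.inl h1
  · exact Or.inr (Linear.eq_neg_one_of_mul_self h2 h1 h)

theorem commute_of_coe_eq_neg_one {F : Type*} [Field F] {g : Matrix.SpecialLinearGroup (Fin 2) F}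
    (h : (g : Matrix (Fin 2) (Fin 2) F) = -1) (x : Matrix.SpecialLinearGroup (Fin 2) F) :
    g * x = x * g := by
  apply Subtype.ext
  rw [Matrix.SpecialLinearGroup.coe_mul, Matrix.SpecialLinearGroup.coe_mul, h, neg_mul, one_mul, mul_neg, mul_one]

theorem twoImagesComm_of_mulEquiv {Γ Δ : Type*} [Group Γ] [Group Δ] (e : Γ ≃* Δ)
    (h : TwoImagesComm p Δ) : TwoImagesComm p Γ := by
  intro Q hQ f x y
  let eQ := (Q.equivMapOfInjective e.toMonoidHom e.injective)
  have := h (Q.map e.toMonoidHom) (hQ.of_equiv eQ) (f.comp eQ.symm.toMonoidHom) (eQ x) (eQ y)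
  change f (eQ.symm (eQ x)) * f (eQ.symm (eQ y)) = f (eQ.symm (eQ y)) * f (eQ.symm (eQ x)) at this
  rwa [eQ.symm_apply_apply, eQ.symm_apply_apply] at this

/-- In `PSL(2,F)`, `|F|` odd, 2-groups have only commutative images in `SL(2,p)`, `p` odd. -/
theorem twoImagesComm_psl {F : Type*} [Field F] [Fintype F] (hF : Odd (Fintype.card F))
    (hp : p ≠ 2) : TwoImagesComm p (ProjectiveSpecialLinearGroup (Fin 2) F) := by
  classical
  intro Q hQ f a b
  have h2F : (2 : F) ≠ 0 := Linear.two_ne_zero_of_odd_card hF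
  have h2p : (2 : ZMod p) ≠ 0 := by
    intro h
    apply hp
    have : ((2 : ℕ) : ZMod p) = 0 := by exact_mod_cast h
    rw [ZMod.natCast_eq_zero_iff] at this
    exact ((Nat.prime_dvd_prime_iff_eq Fact.out Nat.prime_two).1 this)
  let π : Matrix.SpecialLinearGroup (Fin 2) F →* ProjectiveSpecialLinearGroup (Fin 2) F :=
    QuotientGroup.mk' (Subgroup.center (Matrix.SpecialLinearGroup (Fin 2) F))
  have hπs : Function.Surjective π := QuotientGroup.mk'_surjective _
  have hπneg : ∀ g : Matrix.SpecialLinearGroup (Fin 2) F,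
      (g : Matrix (Fin 2) (Fin 2) F) = -1 → π g = 1 := fun g hg =>
    (QuotientGroup.eq_one_iff g).2 (Subgroup.mem_center_iff.2 fun x =>
      (commute_of_coe_eq_neg_one hg x).symm)
  have hker : IsPGroup 2 π.ker := by
    rintro ⟨x, hx⟩
    refine ⟨1, Subtype.ext ?_⟩
    show x ^ 2 ^ 1 = 1
    have hxc : x ∈ Subgroup.center (Matrix.SpecialLinearGroup (Fin 2) F) := (QuotientGroup.eq_one_iff x).1 hx
    rw [Matrix.SpecialLinearGroup.mem_center_iff] at hxc
    obtain ⟨r, hr, hrx⟩ := hxc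
    apply Subtype.ext
    rw [pow_one, Matrix.SpecialLinearGroup.coe_pow, ← hrx, ← map_pow, Matrix.SpecialLinearGroup.coe_one]
    rw [show r ^ 2 = 1 by simpa using hr, map_one]
  obtain ⟨P, hP⟩ := (hQ.comap_of_ker_isPGroup π hker).exists_le_sylow
  obtain ⟨k, hk, ⟨e⟩⟩ := Linear.sylow_two_SL2_quaternion hF P
  -- lift elements of `Q` to the quaternion group
  have lift : ∀ q : Q, ∃ u : QuaternionGroup (2 ^ k),
      π ((e.symm u : (P : Subgroup (Matrix.SpecialLinearGroup (Fin 2) F))) :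
        Matrix.SpecialLinearGroup (Fin 2) F) = q := by
    intro q
    obtain ⟨s, hs⟩ := hπs q
    refine ⟨e ⟨s, hP (Subgroup.mem_comap.2 (hs ▸ q.2))⟩, ?_⟩
    rw [e.symm_apply_apply]
    exact hs
  let ψ : QuaternionGroup (2 ^ k) →* ProjectiveSpecialLinearGroup (Fin 2) F :=
    π.comp ((P : Subgroup (Matrix.SpecialLinearGroup (Fin 2) F)).subtype.comp e.symm.toMonoidHom)
  have lift' : ∀ q : Q, ∃ u, ψ u = (q : ProjectiveSpecialLinearGroup (Fin 2) F) := lift
  -- elements `xa i` map to central elements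
  have hxa : ∀ (q : Q) i, ψ (QuaternionGroup.xa i) = q → ∀ x, f q * x = x * f q := by
    intro q i hq x
    have hz : (QuaternionGroup.xa i * QuaternionGroup.xa i : QuaternionGroup (2 ^ k)) *
        (QuaternionGroup.xa i * QuaternionGroup.xa i) = 1 := by
      rw [← QuaternionGroup.xa_pow_four i, pow_succ, pow_succ, pow_succ, pow_one, mul_assoc _ (QuaternionGroup.xa i) (QuaternionGroup.xa i)]
    have hψ : ψ (QuaternionGroup.xa i * QuaternionGroup.xa i) = 1 := by
      have h0 := congrArg (fun z => ((e.symm z : (P : Subgroup (Matrix.SpecialLinearGroup (Fin 2) F))) :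
        Matrix.SpecialLinearGroup (Fin 2) F)) hz
      simp only [map_mul, map_one, Subgroup.coe_mul, Subgroup.coe_one] at h0
      rcases sl_sq_cases h2F h0 with h | h
      · show π _ = 1
        simp only [MonoidHom.comp_apply, MulEquiv.coe_toMonoidHom, map_mul, Subgroup.coe_subtype,
          Subgroup.coe_mul]
        rw [← map_mul, h, map_one]
      · show π _ = 1
        simp only [MonoidHom.comp_apply, MulEquiv.coe_toMonoidHom, map_mul, Subgroup.coe_subtype,
          Subgroup.coe_mul]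
        exact hπneg _ h
    have hqq : q * q = 1 := Subtype.ext (by
      rw [Subgroup.coe_mul, ← hq, ← map_mul, hψ]; rfl)
    rcases sl_sq_cases h2p (g := f q) (by rw [← map_mul, hqq, map_one]) with h | h
    · rw [h, one_mul, mul_one]
    · exact commute_of_coe_eq_neg_one h x
  obtain ⟨u, hu⟩ := lift' a
  obtain ⟨v, hv⟩ := lift' b
  match u, v with
  | .xa i, _ => exact hxa a i hu _
  | .a i, .xa j => exact (hxa b j hv _).symm
  | .a i, .a j =>
    have hab : a * b = b * a := Subtype.ext (by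
      rw [Subgroup.coe_mul, Subgroup.coe_mul, ← hu, ← hv, ← map_mul, ← map_mul,
        QuaternionGroup.a_mul_a, QuaternionGroup.a_mul_a, add_comm])
    rw [← map_mul, hab, map_mul]

open Cfsg.Agent.Lib.LieTwisted.Ree in
/-- In a small Ree group, 2-groups have only commutative images in `SL(2,p)`, `p` odd. -/
theorem twoImagesComm_ree {K : Type*} [Field K] [Fintype K] {m : ℕ} (hp : p ≠ 2)
    (hK : Fintype.card K = 3 ^ (2 * m + 1)) :
    TwoImagesComm p ↥(Cfsg.Lie.twistedG2 K (3 ^ m)) := by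
  classical
  haveI := charP_of_card hK
  intro Q hQ f a b
  by_contra hne
  have h2p : (2 : ZMod p) ≠ 0 := by
    intro h
    apply hp
    have : ((2 : ℕ) : ZMod p) = 0 := by exact_mod_cast h
    rw [ZMod.natCast_eq_zero_iff] at this
    exact ((Nat.prime_dvd_prime_iff_eq Fact.out Nat.prime_two).1 this)
  have hQR : IsPGroup 2 f.range := hQ.of_surjective f.rangeRestrict f.rangeRestrict_surjective
  obtain ⟨l, hl⟩ := IsPGroup.iff_card.1 hQ
  obtain ⟨r, hr⟩ := IsPGroup.iff_card.1 hQR
  have hr3 : 3 ≤ r := by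
    by_contra hlt
    apply hne
    have hc : ∀ x y : f.range, x * y = y * x := by
      obtain rfl | rfl | rfl : r = 0 ∨ r = 1 ∨ r = 2 := by omega
      · haveI : Subsingleton f.range := Nat.card_eq_one_iff_unique.1 (by simpa using hr) |>.1
        exact fun x y => Subsingleton.elim _ _
      · haveI : Fact (Nat.Prime 2) := ⟨Nat.prime_two⟩
        haveI := isCyclic_of_prime_card (α := f.range) (by simpa using hr)
        exact fun x y => (IsCyclic.commGroup (α := f.range)).mul_comm x y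
      · exact fun x y => IsPGroup.commutative_of_card_eq_prime_sq (p := 2) hr x y
    exact congrArg Subtype.val (hc ⟨f a, a, rfl⟩ ⟨f b, b, rfl⟩)
  have hdvd : 2 ^ r ∣ 2 ^ l := hr ▸ hl ▸ Subgroup.card_range_dvd f
  have hlr : r ≤ l := (Nat.pow_dvd_pow_iff_le_right (by norm_num)).1 hdvd
  -- the order of the group
  have hG := Cfsg.Agent.Lib.LieTwisted.Ree.card_twisted hK
  have hmod : 3 ^ (2 * m + 1) % 16 = 3 ∨ 3 ^ (2 * m + 1) % 16 = 11 := by
    induction m with
    | zero => exact Or.inl rfl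
    | succ j ih =>
      rw [show 3 ^ (2 * (j + 1) + 1) = 3 ^ (2 * j + 1) * 9 by
        rw [show 2 * (j + 1) + 1 = 2 * j + 1 + 2 by ring, pow_add]; norm_num, Nat.mul_mod]
      have : 3 ^ (2 * j + 1) % 16 = 3 ∨ 3 ^ (2 * j + 1) % 16 = 11 := by
        clear * -
        induction j with
        | zero => exact Or.inl rfl
        | succ j ih =>
          rw [show 3 ^ (2 * (j + 1) + 1) = 3 ^ (2 * j + 1) * 9 by
            rw [show 2 * (j + 1) + 1 = 2 * j + 1 + 2 by ring, pow_add]; norm_num, Nat.mul_mod]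
          rcases ih with h | h <;> simp [h]
      rcases this with h | h <;> simp [h]
  have h16 : ¬ 2 ^ 4 ∣ Nat.card ↥(Cfsg.Lie.twistedG2 K (3 ^ m)) := by
    rw [hG, Nat.dvd_iff_mod_eq_zero]
    generalize hq : 3 ^ (2 * m + 1) = q at hmod ⊢
    have hq1 : 1 ≤ q := by omega
    have h1 : (q - 1) % 16 = q % 16 - 1 := by omega
    rcases hmod with h | h <;> rw [h] at h1 <;>
      simp [Nat.mul_mod, Nat.pow_mod, Nat.add_mod, h, h1]
  have hl3 : l ≤ 3 := by
    by_contra hlt
    exact h16 ((pow_dvd_pow 2 (show 4 ≤ l by omega)).trans (hl ▸ Subgroup.card_subgroup_dvd_card Q))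
  have hl3' : l = 3 := by omega
  have hfi : Function.Injective f := by
    have hcard : Nat.card f.range = Nat.card Q := by rw [hr, hl]; congr 1; omega
    have := (Nat.bijective_iff_surjective_and_card f.rangeRestrict).2
      ⟨f.rangeRestrict_surjective, hcard.symm⟩
    exact fun x y h => this.1 (Subtype.ext h)
  have huniq : ∀ x y : Q, x * x = 1 → y * y = 1 → x ≠ 1 → y ≠ 1 → x = y := by
    intro x y hx hy hx1 hy1
    apply hfi
    apply Subtype.ext
    rw [((sl_sq_cases h2p (g := f x) (by rw [← map_mul, hx, map_one])).resolve_left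
        fun h => hx1 (hfi (h.trans f.map_one.symm))),
      ((sl_sq_cases h2p (g := f y) (by rw [← map_mul, hy, map_one])).resolve_left
        fun h => hy1 (hfi (h.trans f.map_one.symm)))]
  -- two commuting involutions
  let w : ↥(Cfsg.Lie.twistedG2 K (3 ^ m)) := w0 m
  let z : ↥(Cfsg.Lie.twistedG2 K (3 ^ m)) := ⟨hh (-1 : Kˣ) (-1), negOne_mem m⟩
  have hww : w * w = 1 := w0_mul_self
  have hzz : z * z = 1 := Subtype.ext (by
    show hh (-1 : Kˣ) (-1) * hh (-1) (-1) = 1
    rw [hh_mul]; simp [hh_one])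
  have hwz : w * z = z * w := Subtype.ext (by
    show n0 * hh (-1 : Kˣ) (-1) = hh (-1) (-1) * n0
    have h := n0_hh (K := K) (-1) (-1)
    rw [inv_neg, inv_one] at h
    calc n0 * hh (-1 : Kˣ) (-1) = n0 * hh (-1 : Kˣ) (-1) * (n0 * n0) := by rw [n0_mul_self, mul_one]
      _ = hh (-1) (-1) * n0 := by rw [← mul_assoc, h])
  have hw1 : w ≠ 1 := fun h => n0_not_borel (K := K) (by
    have := congrArg Subtype.val h
    rw [show (n0 : GL Cfsg.Lie.chevG2.Idx K) = 1 from this]; exact one_mem _)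
  have hz1 : z ≠ 1 := fun h => by
    have hh1 := (hh_inj (show hh (-1 : Kˣ) (-1) = hh 1 1 by rw [hh_one]; exact congrArg Subtype.val h)).1
    have : (-1 : K) = 1 := by simpa using congrArg Units.val hh1
    have h3 : (3 : K) = 0 := CharP.cast_eq_zero K 3
    exact one_ne_zero (show (1 : K) = 0 by linear_combination h3 + this)
  have hwz1 : w ≠ z := fun h => n0_not_borel (K := K) (by
    rw [show (n0 : GL Cfsg.Lie.chevG2.Idx K) = hh (-1) (-1) from congrArg Subtype.val h]
    exact diag_le_borel ((mem_diag_iff _).2 ⟨_, _, rfl⟩))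
  haveI : Fact (Nat.Prime 2) := ⟨Nat.prime_two⟩
  have hpow : ∀ s : ↥(Cfsg.Lie.twistedG2 K (3 ^ m)), s * s = 1 →
      IsPGroup 2 (Subgroup.zpowers s) := fun s hs => IsPGroup.of_card_dvd_pow (n := 1) (by
    rw [Nat.card_zpowers, pow_one]; exact orderOf_dvd_of_pow_eq_one (by rw [pow_two, hs]))
  have hD : IsPGroup 2 (Subgroup.zpowers w ⊔ Subgroup.zpowers z :
      Subgroup ↥(Cfsg.Lie.twistedG2 K (3 ^ m))) := by
    refine IsPGroup.to_sup_of_normal_right' (hpow w hww) (hpow z hzz) ?_
    rw [Subgroup.zpowers_le]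
    refine Subgroup.centralizer_le_normalizer _ (Subgroup.mem_centralizer_iff.2 ?_)
    rintro _ ⟨i, rfl⟩
    exact ((show Commute w z from hwz).zpow_right i).eq.symm
  obtain ⟨P, hP⟩ := hD.exists_le_sylow
  have hQ8 : 2 ^ 3 ∣ Nat.card ↥(Cfsg.Lie.twistedG2 K (3 ^ m)) := by
    have := Subgroup.card_subgroup_dvd_card Q
    rw [hl, show (2 : ℕ) ^ l = 2 ^ 3 by rw [hl3']] at this
    exact this
  let R : Sylow 2 ↥(Cfsg.Lie.twistedG2 K (3 ^ m)) := Sylow.ofCard Q (by
    rw [hl, hl3']
    congr 1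
    apply le_antisymm
    · exact (Nat.Prime.pow_dvd_iff_le_factorization Nat.prime_two Nat.card_pos.ne').1 hQ8
    · by_contra hlt
      exact h16 ((Nat.Prime.pow_dvd_iff_le_factorization Nat.prime_two Nat.card_pos.ne').2
        (show 4 ≤ _ by omega)))
  obtain ⟨g, hg⟩ := MulAction.exists_smul_eq ↥(Cfsg.Lie.twistedG2 K (3 ^ m)) P R
  have hmem : ∀ s : ↥(Cfsg.Lie.twistedG2 K (3 ^ m)), s ∈ (P : Subgroup _) → g * s * g⁻¹ ∈ Q := by
    intro s hs
    have : MulAut.conj g • s ∈ ((g • P : Sylow 2 ↥(Cfsg.Lie.twistedG2 K (3 ^ m))) : Subgroup _) :=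
      Subgroup.smul_mem_pointwise_smul s (MulAut.conj g) _ hs
    rw [hg] at this
    simpa [R] using this
  have := huniq ⟨_, hmem w (hP (Subgroup.mem_sup_left (Subgroup.mem_zpowers w)))⟩
    ⟨_, hmem z (hP (Subgroup.mem_sup_right (Subgroup.mem_zpowers z)))⟩
    (Subtype.ext (by
      show g * w * g⁻¹ * (g * w * g⁻¹) = 1
      rw [show g * w * g⁻¹ * (g * w * g⁻¹) = g * (w * w) * g⁻¹ by group, hww]; group))
    (Subtype.ext (by
      show g * z * g⁻¹ * (g * z * g⁻¹) = 1
      rw [show g * z * g⁻¹ * (g * z * g⁻¹) = g * (z * z) * g⁻¹ by group, hzz]; group))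
    (fun h => hw1 (by simpa using congrArg Subtype.val h))
    (fun h => hz1 (by simpa using congrArg Subtype.val h))
  exact hwz1 (by simpa using congrArg Subtype.val this)

/-- A faithful irreducible group all of whose 2-subgroups have commutative images in `SL(2,p)`
has no quadratic elements. -/
theorem no_quadratic {G : Type*} [Group G] [Finite G] (hp : p ≠ 2) {V H : Subgroup G}
    (hV : Cfsg.IsElementaryAbelian p V) (hHV : H ≤ Subgroup.normalizer (V : Set G))
    (hirr : ∀ U : Subgroup G, U ≤ V → H ≤ Subgroup.normalizer (U : Set G) → U = ⊥ ∨ U = V)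
    [hn : ((Subgroup.centralizer (V : Set G)).subgroupOf H).Normal]
    (hΓ : TwoImagesComm p (↥H ⧸ (Subgroup.centralizer (V : Set G)).subgroupOf H))
    {a : G} (haH : a ∈ H) (hq : Quad V a) : a ∈ Subgroup.centralizer (V : Set G) := by
  classical
  by_contra hac
  set C : Subgroup H := (Subgroup.centralizer (V : Set G)).subgroupOf H with hC
  obtain ⟨n, ρ, hker, hquad, E, hE, hEV, hEact⟩ := exists_rep hV hHV
  let ρb : H ⧸ C →* Matrix (Fin n) (Fin n) (ZMod p) := QuotientGroup.lift C ρ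
    (fun h hh => (hker h).2 (Subgroup.mem_subgroupOf.1 hh))
  have hρb : ∀ h : H, ρb h = ρ h := fun h => rfl
  have hinj : Function.Injective ρb := by
    intro x y
    induction x using QuotientGroup.induction_on with | _ x => ?_
    induction y using QuotientGroup.induction_on with | _ y => ?_
    intro h
    rw [hρb, hρb] at h
    refine QuotientGroup.eq.2 (Subgroup.mem_subgroupOf.2 ((hker _).1 ?_))
    rw [map_mul, ← h, ← map_mul, inv_mul_cancel, map_one]
  set x : H ⧸ C := ((⟨a, haH⟩ : H) : H ⧸ C) with hx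
  have hx1 : x ≠ 1 := fun h => hac (Subgroup.mem_subgroupOf.1
    ((QuotientGroup.eq_one_iff (⟨a, haH⟩ : H)).1 h))
  have hn0 : Nonempty (Fin n) := by
    rcases Nat.eq_zero_or_pos n with rfl | hn0
    · exact absurd (hinj (Subsingleton.elim (ρb x) (ρb 1))) hx1
    · exact ⟨⟨0, hn0⟩⟩
  have hx0 : (ρb x - 1) * (ρb x - 1) = 0 := hquad _ hq
  have hxp : IsPGroup p (Subgroup.zpowers x) := by
    refine IsPGroup.of_card_dvd_pow (n := 1) ?_
    rw [Nat.card_zpowers, pow_one]
    refine orderOf_dvd_of_pow_eq_one (hinj ?_)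
    have h := sub_pow_char_of_commute (p := p) (Commute.one_right (ρb x))
    obtain ⟨j, hj⟩ := Nat.exists_eq_add_of_le (Fact.out : p.Prime).two_le
    have hz : (ρb x - 1) ^ p = 0 := pow_eq_zero_of_le (by omega) ((sq _).trans hx0)
    rw [one_pow, hz] at h
    rw [map_pow, map_one]
    exact sub_eq_zero.1 h.symm
  -- no normal `p`-subgroups
  have hcore : ∀ N : Subgroup (H ⧸ C), N.Normal → IsPGroup p N → N = ⊥ := by
    intro N hN hNp
    let U' : Subgroup (Multiplicative (Fin n → ZMod p)) :=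
      { carrier := {v | ∀ g ∈ N, ρb g *ᵥ v.toAdd = v.toAdd}
        one_mem' := fun g _ => by simp
        mul_mem' := fun {u v} hu hv g hg => by
          show ρb g *ᵥ (u.toAdd + v.toAdd) = u.toAdd + v.toAdd
          rw [mulVec_add, hu g hg, hv g hg]
        inv_mem' := fun {u} hu g hg => by
          show ρb g *ᵥ (-u.toAdd) = -u.toAdd
          rw [mulVec_neg, hu g hg] }
    have hnorm : H ≤ Subgroup.normalizer ((U'.map E : Subgroup G) : Set G) := by
      intro h hh
      rw [Subgroup.mem_normalizer_iff]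
      have key : ∀ (k : H) (u : G), u ∈ U'.map E → (k : G) * u * (k : G)⁻¹ ∈ U'.map E := by
        rintro k _ ⟨v, hv, rfl⟩
        refine ⟨Multiplicative.ofAdd (ρ k *ᵥ v.toAdd), fun g hg => ?_, (hEact k v.toAdd).symm⟩
        have := hv _ (hN.conj_mem' g hg (k : H ⧸ C))
        show ρb g *ᵥ (ρ k *ᵥ v.toAdd) = ρ k *ᵥ v.toAdd
        conv_rhs => rw [← this, ← hρb, mulVec_mulVec, ← map_mul]
        rw [← hρb, mulVec_mulVec, ← map_mul]
        congr 2
        group
      intro u
      refine ⟨key ⟨h, hh⟩ u, fun hu => ?_⟩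
      have := key (⟨h, hh⟩⁻¹ : H) _ hu
      simpa [mul_assoc] using this
    rcases hirr (U'.map E) ((Subgroup.map_le_range E U').trans hEV) hnorm with hU | hU
    · exfalso
      letI : MulAction N (Fin n → ZMod p) :=
        { smul := fun g v => ρb (g : H ⧸ C) *ᵥ v
          one_smul := fun v => by
            show ρb ((1 : N) : H ⧸ C) *ᵥ v = v
            rw [Subgroup.coe_one, map_one, one_mulVec]
          mul_smul := fun g g' v => by
            show ρb ((g * g' : N) : H ⧸ C) *ᵥ v = ρb (g : H ⧸ C) *ᵥ (ρb (g' : H ⧸ C) *ᵥ v)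
            rw [Subgroup.coe_mul, map_mul, mulVec_mulVec] }
      have h0 : (0 : Fin n → ZMod p) ∈ MulAction.fixedPoints N (Fin n → ZMod p) := fun g =>
        mulVec_zero _
      obtain ⟨v, hv, hv0⟩ := hNp.exists_fixed_point_of_prime_dvd_card_of_fixed_point
        (Fin n → ZMod p) (by
          rw [Nat.card_fun, Nat.card_zmod]
          exact dvd_pow_self p (Nat.card_pos (α := Fin n)).ne') h0
      have hmem : E (Multiplicative.ofAdd v) ∈ U'.map E := ⟨_, fun g hg => hv ⟨g, hg⟩, rfl⟩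
      rw [hU, Subgroup.mem_bot, ← map_one E] at hmem
      exact hv0 (Multiplicative.ofAdd.injective (hE hmem)).symm
    · rw [Subgroup.eq_bot_iff_forall]
      intro g hg
      apply hinj
      rw [map_one]
      apply Matrix.toLin'.injective
      refine LinearMap.ext fun w => ?_
      have : E (Multiplicative.ofAdd w) ∈ U'.map E := hU ▸ hEV ⟨_, rfl⟩
      obtain ⟨u, hu, huw⟩ := this
      rw [hE huw] at hu
      simpa [Matrix.toLin'_apply] using hu g hg
  obtain ⟨g, hg⟩ : ∃ g : H ⧸ C, ¬ IsPGroup p (Subgroup.closure ({x, g * x * g⁻¹} : Set (H ⧸ C))) := by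
    by_contra hall
    push Not at hall
    obtain ⟨N, hN, hNp, hxN⟩ := Cfsg.Agent.Lib.Involutions.BaerSuzuki.baer_suzuki_elem hxp hall
    rw [hcore N hN hNp, Subgroup.mem_bot] at hxN
    exact hx1 hxN
  set W : Subgroup (H ⧸ C) := Subgroup.closure {x, g * x * g⁻¹} with hW
  have hgen : Subgroup.closure ({⟨x, Subgroup.subset_closure (Or.inl rfl)⟩,
      ⟨g * x * g⁻¹, Subgroup.subset_closure (Or.inr rfl)⟩} : Set W) = ⊤ := by
    apply Subgroup.map_injective W.subtype_injective
    rw [MonoidHom.map_closure, Set.image_pair, ← MonoidHom.range_eq_map, Subgroup.range_subtype]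
    rfl
  obtain ⟨K, f, hf⟩ := exists_surjection hp (ρb.comp W.subtype)
    (hinj.comp W.subtype_injective) hgen hx0 (by
      show (ρb (g * x * g⁻¹) - 1) * (ρb (g * x * g⁻¹) - 1) = 0
      have e1 : ρb g * ρb g⁻¹ = 1 := by rw [← map_mul, mul_inv_cancel, map_one]
      have e2 : ρb g⁻¹ * ρb g = 1 := by rw [← map_mul, inv_mul_cancel, map_one]
      have e3 : ρb (g * x * g⁻¹) - 1 = ρb g * (ρb x - 1) * ρb g⁻¹ := by
        rw [map_mul, map_mul, mul_sub, sub_mul, mul_one, e1]
      rw [e3, show ρb g * (ρb x - 1) * ρb g⁻¹ * (ρb g * (ρb x - 1) * ρb g⁻¹) =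
        ρb g * ((ρb x - 1) * (ρb g⁻¹ * ρb g) * (ρb x - 1)) * ρb g⁻¹ by noncomm_ring, e2, mul_one,
        hx0, mul_zero, zero_mul]) hg
  haveI : Fact (Nat.Prime 2) := ⟨Nat.prime_two⟩
  let S : Sylow 2 K := default
  let T : Sylow 2 (Matrix.SpecialLinearGroup (Fin 2) (ZMod p)) := S.mapSurjective hf
  obtain ⟨k, hk, ⟨e⟩⟩ := Linear.sylow_two_SL2_quaternion
    (by rw [ZMod.card]; exact (Fact.out : p.Prime).odd_of_ne_two hp) T
  let ι : S →* H ⧸ C := W.subtype.comp (K.subtype.comp (S : Subgroup K).subtype)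
  have hι : Function.Injective ι :=
    W.subtype_injective.comp (K.subtype_injective.comp (Subgroup.subtype_injective _))
  let eι : S ≃* ι.range := MonoidHom.ofInjective hι
  have hcomm : ∀ x y : (S : Subgroup K), f x * f y = f y * f x := fun u v => by
    have := hΓ ι.range (S.isPGroup'.of_equiv eι)
      ((f.comp (S : Subgroup K).subtype).comp eι.symm.toMonoidHom) (eι u) (eι v)
    simpa using this
  have hT : ∀ u v : T, u * v = v * u := by
    rintro ⟨u, hu⟩ ⟨v, hv⟩
    obtain ⟨a, ha, rfl⟩ := (hu : u ∈ (S : Subgroup K).map f)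
    obtain ⟨b, hb, rfl⟩ := (hv : v ∈ (S : Subgroup K).map f)
    exact Subtype.ext (hcomm ⟨a, ha⟩ ⟨b, hb⟩)
  have h0 := congrArg e (hT (e.symm (QuaternionGroup.a 1)) (e.symm (QuaternionGroup.xa 0)))
  simp only [map_mul, e.apply_symm_apply, QuaternionGroup.a_mul_xa, QuaternionGroup.xa_mul_a,
    QuaternionGroup.xa.injEq, zero_sub, zero_add] at h0
  have h4 : ((2 : ℕ) : ZMod (2 * 2 ^ k)) = 0 := by push_cast; linear_combination -h0
  rw [ZMod.natCast_eq_zero_iff] at h4
  have := Nat.le_of_dvd (by norm_num) h4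
  have : 2 ≤ 2 ^ k := Nat.le_self_pow (by omega) 2
  omega

end Cfsg.Agent.Lib.Quadratic
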