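import Cfsg.Agent.Lib.Dickson.SL2
import Mathlib.LinearAlgebra.Matrix.Charpoly.Coeff
import Mathlib.LinearAlgebra.Matrix.Charpoly.Eigs
import Mathlib.FieldTheory.SplittingField.Construction
import Mathlib.GroupTheory.PGroup
import Mathlib.Tactic.NoncommRing

/-!
Groups generated by two quadratic elements: either a `p`-group, or there is a homomorphism to
`SL(2,K)` sending the generators to `up 1`, `lo l` with `l ≠ 0`; by Dickson's lemma `SL(2,p)` is
then a quotient of a subgroup.
-/

namespace Cfsg.Agent.Lib.Quadratic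

open Cfsg.Agent.Lib.Dickson Matrix
open Cfsg.Agent.Lib.PLocal.SLTwo (up lo up_add lo_add up_zero lo_zero val_mul)

section Ring

variable {R : Type*} [Ring R] (u w : R)

/-- Additive subgroup generated by the products of at least `n` factors from `{u, w}`. -/
def wordSpan (n : ℕ) : AddSubgroup R :=
  AddSubgroup.closure {x | ∃ l : List R, n ≤ l.length ∧ (∀ y ∈ l, y = u ∨ y = w) ∧ l.prod = x}

theorem wordSpan_mul {a b : ℕ} {x y : R} (hx : x ∈ wordSpan u w a) (hy : y ∈ wordSpan u w b) :
    x * y ∈ wordSpan u w (a + b) := by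
  induction hx using AddSubgroup.closure_induction with
  | zero => rw [zero_mul]; exact zero_mem _
  | add x x' _ _ ih ih' => rw [add_mul]; exact add_mem ih ih'
  | neg x _ ih => rw [neg_mul]; exact neg_mem ih
  | mem x hx =>
    induction hy using AddSubgroup.closure_induction with
    | zero => rw [mul_zero]; exact zero_mem _
    | add y y' _ _ ih ih' => rw [mul_add]; exact add_mem ih ih'
    | neg y _ ih => rw [mul_neg]; exact neg_mem ih
    | mem y hy =>
      obtain ⟨l, hl, hlm, rfl⟩ := hx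
      obtain ⟨l', hl', hlm', rfl⟩ := hy
      refine AddSubgroup.subset_closure ⟨l ++ l', by simp; omega, ?_, List.prod_append⟩
      intro z hz
      rcases List.mem_append.1 hz with hz | hz
      exacts [hlm z hz, hlm' z hz]

variable {u w}

theorem wordSpan_pow {x : R} (hx : x ∈ wordSpan u w 1) : ∀ n, 1 ≤ n → x ^ n ∈ wordSpan u w n := by
  intro n hn
  induction n with
  | zero => omega
  | succ n ih =>
    rcases Nat.eq_zero_or_pos n with rfl | hn'
    · simpa using hx
    · rw [pow_succ]; exact wordSpan_mul u w (ih hn') hx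

theorem mul_pow_trace (hu : u * u = 0) :
    ∀ j, u * (u * w + w * u) ^ j = u * (w * u) ^ j := by
  intro j
  induction j with
  | zero => rw [pow_zero, pow_zero]
  | succ j ih =>
    have hend : u * (w * u) ^ j * u = 0 := by
      cases j with
      | zero => rw [pow_zero, mul_one, hu]
      | succ i =>
        rw [pow_succ]
        calc u * ((w * u) ^ i * (w * u)) * u = u * (w * u) ^ i * w * (u * u) := by noncomm_ring
          _ = 0 := by rw [hu, mul_zero]
    calc u * (u * w + w * u) ^ (j + 1)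
        = u * (u * w + w * u) ^ j * (u * w + w * u) := by rw [pow_succ, mul_assoc]
      _ = (u * (w * u) ^ j * u) * w + u * ((w * u) ^ j * (w * u)) := by rw [ih]; noncomm_ring
      _ = u * (w * u) ^ (j + 1) := by rw [hend, zero_mul, zero_add, pow_succ]

theorem trace_comm (hu : u * u = 0) : u * (u * w + w * u) = (u * w + w * u) * u := by
  calc u * (u * w + w * u) = (u * u) * w + u * w * u := by noncomm_ring
    _ = u * w * u + w * (u * u) := by rw [hu, zero_mul, mul_zero, zero_add, add_zero]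
    _ = (u * w + w * u) * u := by noncomm_ring

theorem alternating_prod_eq_zero (hu : u * u = 0) (hw : w * w = 0) {m : ℕ}
    (hc : (u * w + w * u) ^ m = 0) :
    ∀ l : List R, (∀ y ∈ l, y = u ∨ y = w) → 2 * m + 2 ≤ l.length → l.prod = 0 := by
  -- a word is zero, or alternates and starts with `u * (w * u) ^ k` or `w * (u * w) ^ k`
  have key : ∀ k, ∀ l : List R, (∀ y ∈ l, y = u ∨ y = w) → 2 * k + 1 ≤ l.length →
      (∀ t, l = u :: t → ∃ r, l.prod = u * (w * u) ^ k * r) ∧
      (∀ t, l = w :: t → ∃ r, l.prod = w * (u * w) ^ k * r) := by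
    intro k
    induction k with
    | zero =>
      intro l _ _
      constructor <;> rintro t rfl <;> exact ⟨t.prod, by simp⟩
    | succ k ih =>
      intro l hl hlen
      constructor <;> rintro t rfl
      · match t, hlen with
        | a :: b :: t', hlen =>
          have ha : a = u ∨ a = w := hl a (by simp)
          have hb : b = u ∨ b = w := hl b (by simp)
          rcases ha with ha | ha
          · exact ⟨0, by simp [ha, ← mul_assoc, hu]⟩
          · rcases hb with hb | hb
            · obtain ⟨r, hr⟩ := (ih (b :: t') (fun y hy => hl y (by simp [List.mem_cons] at hy ⊢; tauto))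
                (by simp at hlen ⊢; omega)).1 t' (by rw [hb])
              refine ⟨r, ?_⟩
              rw [List.prod_cons, List.prod_cons, hr, ha, pow_succ']
              noncomm_ring
            · exact ⟨0, by simp [ha, hb, ← mul_assoc, mul_assoc u w w, hw]⟩
      · match t, hlen with
        | a :: b :: t', hlen =>
          have ha : a = u ∨ a = w := hl a (by simp)
          have hb : b = u ∨ b = w := hl b (by simp)
          rcases ha with ha | ha
          · rcases hb with hb | hb
            · exact ⟨0, by simp [ha, hb, ← mul_assoc, mul_assoc w u u, hu]⟩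
            · obtain ⟨r, hr⟩ := (ih (b :: t') (fun y hy => hl y (by simp [List.mem_cons] at hy ⊢; tauto))
                (by simp at hlen ⊢; omega)).2 t' (by rw [hb])
              refine ⟨r, ?_⟩
              rw [List.prod_cons, List.prod_cons, hr, ha, pow_succ']
              noncomm_ring
          · exact ⟨0, by simp [ha, ← mul_assoc, hw]⟩
  intro l hl hlen
  match l, hlen with
  | a :: t, hlen =>
    obtain ⟨h1, h2⟩ := key m (a :: t) hl (by omega)
    have hw' : w * (u * w) ^ m = 0 := by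
      rw [← mul_pow_trace hw, show w * u + u * w = u * w + w * u from add_comm _ _, hc, mul_zero]
    have hu' : u * (w * u) ^ m = 0 := by rw [← mul_pow_trace hu, hc, mul_zero]
    rcases hl a (by simp) with ha | ha
    · obtain ⟨r, hr⟩ := h1 t (by rw [ha]); rw [hr, hu', zero_mul]
    · obtain ⟨r, hr⟩ := h2 t (by rw [ha]); rw [hr, hw', zero_mul]

theorem wordSpan_eq_zero (hu : u * u = 0) (hw : w * w = 0) {m n : ℕ}
    (hc : (u * w + w * u) ^ m = 0) (hn : 2 * m + 2 ≤ n) {x : R} (hx : x ∈ wordSpan u w n) :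
    x = 0 := by
  refine (AddSubgroup.closure_le (K := (⊥ : AddSubgroup R))).2 ?_ hx
  rintro _ ⟨l, hl, hlm, rfl⟩
  exact alternating_prod_eq_zero hu hw hc l hlm (hn.trans hl)

/-- If the trace element is nilpotent the generated group is a `p`-group. -/
theorem isPGroup_of_trace_nilpotent {p : ℕ} [Fact p.Prime] [CharP R p] {Γ : Type*} [Group Γ]
    [Finite Γ] (ρ : Γ →* R) (hρ : Function.Injective ρ) {a b : Γ}
    (hgen : Subgroup.closure {a, b} = ⊤) (hu : (ρ a - 1) * (ρ a - 1) = 0)
    (hw : (ρ b - 1) * (ρ b - 1) = 0) {m : ℕ}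
    (hc : ((ρ a - 1) * (ρ b - 1) + (ρ b - 1) * (ρ a - 1)) ^ m = 0) : IsPGroup p Γ := by
  have hmem : ∀ g : Γ, ρ g - 1 ∈ wordSpan (ρ a - 1) (ρ b - 1) 1 := by
    intro g
    have hg : g ∈ (Subgroup.closure ({a, b} : Set Γ)).toSubmonoid := by simp [hgen]
    rw [Subgroup.closure_toSubmonoid_of_finite] at hg
    induction hg using Submonoid.closure_induction with
    | mem x hx =>
      refine AddSubgroup.subset_closure ⟨[ρ x - 1], by simp, ?_, by simp⟩
      rcases hx with rfl | rfl <;> simp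
    | one => rw [map_one, sub_self]; exact zero_mem _
    | mul x y _ _ ihx ihy =>
      have he : ρ (x * y) - 1 = (ρ x - 1) * (ρ y - 1) + (ρ x - 1) + (ρ y - 1) := by
        rw [map_mul]; noncomm_ring
      rw [he]
      refine add_mem (add_mem ?_ ihx) ihy
      refine AddSubgroup.closure_mono ?_ (wordSpan_mul _ _ ihx ihy)
      rintro z ⟨l, hl, h⟩
      exact ⟨l, by omega, h⟩
  intro g
  have hlt : 2 * m + 2 < p ^ (2 * m + 2) := Nat.lt_pow_self (Fact.out : p.Prime).one_lt
  refine ⟨2 * m + 2, hρ ?_⟩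
  have h1 := sub_pow_char_pow_of_commute (p := p) (2 * m + 2) (Commute.one_right (ρ g))
  rw [one_pow, wordSpan_eq_zero hu hw hc hlt.le (wordSpan_pow (hmem g) _ (by omega))] at h1
  rw [map_pow, map_one]
  exact sub_eq_zero.1 h1.symm

end Ring

theorem coe_trace_rel {R : Type*} [Ring R] (x : R) : x = 1 + (x - 1) := by noncomm_ring

/-- A nonzero trace eigenvalue gives a two-dimensional representation. -/
theorem exists_hom_of_eigen {L : Type*} [Field L] {ι : Type*} [Fintype ι] [DecidableEq ι]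
    {Γ : Type*} [Group Γ] (ρ : Γ →* Matrix ι ι L) {a b : Γ}
    (hgen : Subgroup.closure {a, b} = ⊤) (hu : (ρ a - 1) * (ρ a - 1) = 0)
    (hw : (ρ b - 1) * (ρ b - 1) = 0) {l : L} (hl : l ≠ 0) {m : ι → L} (hm : m ≠ 0)
    (hcm : ((ρ a - 1) * (ρ b - 1) + (ρ b - 1) * (ρ a - 1)) *ᵥ m = l • m) :
    ∃ φ : Γ →* Matrix.SpecialLinearGroup (Fin 2) L, φ a = up 1 ∧ φ b = lo l ∧
      ∃ P : Matrix ι (Fin 2) L, (∀ g, ρ g * P = P * (φ g).1) ∧
        ∀ x : Fin 2 → L, P *ᵥ x = 0 → x = 0 := by
  classical
  set u := ρ a - 1 with hudef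
  set w := ρ b - 1 with hwdef
  have hua : ρ a = 1 + u := coe_trace_rel _
  have hwb : ρ b = 1 + w := coe_trace_rel _
  obtain ⟨m1, hm1, hum1⟩ : ∃ m1, (u * w + w * u) *ᵥ m1 = l • m1 ∧ u *ᵥ m1 ≠ 0 := by
    by_cases h : u *ᵥ m = 0
    · refine ⟨w *ᵥ m, ?_, ?_⟩
      · rw [Matrix.mulVec_mulVec, add_comm, ← trace_comm hw, ← Matrix.mulVec_mulVec,
          show w * u + u * w = u * w + w * u from add_comm _ _, hcm, Matrix.mulVec_smul]
      · intro h2
        have h3 : (u * w + w * u) *ᵥ m = 0 := by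
          rw [Matrix.add_mulVec, ← Matrix.mulVec_mulVec, ← Matrix.mulVec_mulVec, h2, h,
            Matrix.mulVec_zero, add_zero]
        rw [h3] at hcm
        exact hm ((smul_eq_zero.1 hcm.symm).resolve_left hl)
    · exact ⟨m, hcm, h⟩
  set e1 := u *ᵥ m1 with he1
  set e2 := l⁻¹ • (w *ᵥ e1) with he2
  have hu1 : u *ᵥ e1 = 0 := by rw [he1, Matrix.mulVec_mulVec, hu, Matrix.zero_mulVec]
  have hw1 : w *ᵥ e1 = l • e2 := by rw [he2, smul_smul, mul_inv_cancel₀ hl, one_smul]
  have hu2 : u *ᵥ e2 = e1 := by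
    have hce : (u * w + w * u) *ᵥ e1 = l • e1 := by
      rw [he1, Matrix.mulVec_mulVec, ← trace_comm hu, ← Matrix.mulVec_mulVec, hm1,
        Matrix.mulVec_smul]
    rw [Matrix.add_mulVec, ← Matrix.mulVec_mulVec, ← Matrix.mulVec_mulVec, hu1,
      Matrix.mulVec_zero, add_zero] at hce
    rw [he2, Matrix.mulVec_smul, hce, smul_smul, inv_mul_cancel₀ hl, one_smul]
  have hw2 : w *ᵥ e2 = 0 := by
    rw [he2, Matrix.mulVec_smul, Matrix.mulVec_mulVec, hw, Matrix.zero_mulVec, smul_zero]
  let P : Matrix ι (Fin 2) L := Matrix.of fun i j => if j = 0 then e1 i else e2 i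
  have hPv : ∀ x : Fin 2 → L, P *ᵥ x = x 0 • e1 + x 1 • e2 := by
    intro x; ext i; simp [P, Matrix.mulVec, dotProduct, Fin.sum_univ_two, mul_comm]
  have hPinj : ∀ M N : Matrix (Fin 2) (Fin 2) L, P * M = P * N → M = N := by
    intro M N h
    ext i j
    have hx : P *ᵥ (fun i => M i j - N i j) = 0 := by
      ext k
      have hk := congrFun (congrFun h k) j
      simp only [Matrix.mul_apply] at hk
      simp only [Matrix.mulVec, dotProduct, mul_sub, Finset.sum_sub_distrib, hk, sub_self,
        Pi.zero_apply]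
    rw [hPv] at hx
    have hy : M 1 j - N 1 j = 0 := by
      have := congrArg (u *ᵥ ·) hx
      simp only [Matrix.mulVec_add, Matrix.mulVec_smul, hu1, hu2, smul_zero, zero_add,
        Matrix.mulVec_zero] at this
      exact (smul_eq_zero.1 this).resolve_right hum1
    rw [hy, zero_smul, add_zero] at hx
    have hx0 := (smul_eq_zero.1 hx).resolve_right hum1
    fin_cases i
    · exact sub_eq_zero.1 hx0
    · exact sub_eq_zero.1 hy
  have hPa : ρ a * P = P * (up (1 : L)).1 := by
    rw [hua]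
    ext i j
    have h1 : ∀ j, ((1 + u) * P : Matrix ι (Fin 2) L) i j = P i j + (u *ᵥ fun k => P k j) i := by
      intro j; rw [Matrix.add_mul, Matrix.one_mul]; rfl
    rw [h1]
    fin_cases j
    · simp [P, hu1, coe_up, Matrix.mul_apply, Fin.sum_univ_two]
    · simp [P, hu2, coe_up, Matrix.mul_apply, Fin.sum_univ_two, add_comm]
  have hPb : ρ b * P = P * (lo l).1 := by
    rw [hwb]
    ext i j
    have h1 : ∀ j, ((1 + w) * P : Matrix ι (Fin 2) L) i j = P i j + (w *ᵥ fun k => P k j) i := by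
      intro j; rw [Matrix.add_mul, Matrix.one_mul]; rfl
    rw [h1]
    fin_cases j
    · simp [P, hw1, coe_lo, Matrix.mul_apply, Fin.sum_univ_two, mul_comm]
    · simp [P, hw2, coe_lo, Matrix.mul_apply, Fin.sum_univ_two]
  let S : Subgroup Γ :=
    { carrier := {g | ∃ M : Matrix.SpecialLinearGroup (Fin 2) L, ρ g * P = P * M.1}
      one_mem' := ⟨1, by simp⟩
      mul_mem' := by
        rintro g h ⟨M, hM⟩ ⟨N, hN⟩
        exact ⟨M * N, by
          rw [map_mul, Matrix.mul_assoc, hN, ← Matrix.mul_assoc, hM, Matrix.mul_assoc, val_mul]⟩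
      inv_mem' := by
        rintro g ⟨M, hM⟩
        refine ⟨M⁻¹, ?_⟩
        calc ρ g⁻¹ * P = ρ g⁻¹ * (P * (M * M⁻¹).1) := by simp
          _ = ρ g⁻¹ * (P * M.1) * M⁻¹.1 := by
            rw [val_mul, Matrix.mul_assoc, Matrix.mul_assoc]
          _ = P * M⁻¹.1 := by
            rw [← hM, ← Matrix.mul_assoc, ← map_mul, inv_mul_cancel, map_one, Matrix.one_mul] }
  have hS : ∀ g : Γ, ∃ M : Matrix.SpecialLinearGroup (Fin 2) L, ρ g * P = P * M.1 := by
    intro g
    have hle : Subgroup.closure ({a, b} : Set Γ) ≤ S := by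
      rw [Subgroup.closure_le]
      rintro x (rfl | rfl)
      exacts [⟨_, hPa⟩, ⟨_, hPb⟩]
    exact hle (hgen ▸ Subgroup.mem_top g)
  choose φ hφ using hS
  have huniq : ∀ g M, ρ g * P = P * M.1 → φ g = M := fun g M h =>
    Subtype.ext (hPinj _ _ ((hφ g).symm.trans h))
  refine ⟨MonoidHom.mk' φ ?_, huniq _ _ hPa, huniq _ _ hPb, P, fun g => hφ g, fun x hx => ?_⟩
  · intro g h
    apply huniq
    rw [map_mul, Matrix.mul_assoc, hφ h, ← Matrix.mul_assoc, hφ g, Matrix.mul_assoc, val_mul]
  · rw [hPv] at hx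
    have hy : x 1 = 0 := by
      have := congrArg (u *ᵥ ·) hx
      simp only [Matrix.mulVec_add, Matrix.mulVec_smul, hu1, hu2, smul_zero, zero_add,
        Matrix.mulVec_zero] at this
      exact (smul_eq_zero.1 this).resolve_right hum1
    rw [hy, zero_smul, add_zero] at hx
    have hx0 := (smul_eq_zero.1 hx).resolve_right hum1
    ext i
    fin_cases i
    · exact hx0
    · exact hy

/-- The image of the pair has two Sylow subgroups. -/
theorem one_lt_card_sylow_range {L : Type*} [Field L] [Finite L] {p : ℕ} [Fact p.Prime] [CharP L p]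
    {l : L} (hl : l ≠ 0) :
    1 < Nat.card (Sylow p (Subgroup.closure ({up 1, lo l} :
      Set (Matrix.SpecialLinearGroup (Fin 2) L)))) := by
  set H := Subgroup.closure ({up 1, lo l} : Set (Matrix.SpecialLinearGroup (Fin 2) L))
  have hpow : ∀ (x : H), (x : Matrix.SpecialLinearGroup (Fin 2) L) ^ p = 1 →
      IsPGroup p (Subgroup.zpowers x) := by
    intro x hx
    refine IsPGroup.of_card_dvd_pow (n := 1) ?_
    rw [Nat.card_zpowers, pow_one]
    exact orderOf_dvd_of_pow_eq_one (Subtype.ext (by simpa using hx))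
  by_contra hle
  have hpos : 0 < Nat.card (Sylow p H) := Nat.card_pos
  have : Subsingleton (Sylow p H) := (Nat.card_eq_one_iff_unique.1 (by omega)).1
  obtain ⟨P⟩ := (inferInstance : Nonempty (Sylow p H))
  have hu : (⟨up 1, Subgroup.subset_closure (Or.inl rfl)⟩ : H) ∈ P := by
    obtain ⟨Q, hQ⟩ := (hpow ⟨up 1, Subgroup.subset_closure (Or.inl rfl)⟩
      (by rw [← up_nsmul, mul_one, CharP.cast_eq_zero, up_zero])).exists_le_sylow
    rw [Subsingleton.elim P Q]
    exact hQ (Subgroup.mem_zpowers _)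
  have hw : (⟨lo l, Subgroup.subset_closure (Or.inr rfl)⟩ : H) ∈ P := by
    obtain ⟨Q, hQ⟩ := (hpow ⟨lo l, Subgroup.subset_closure (Or.inr rfl)⟩
      (by rw [← lo_nsmul, CharP.cast_eq_zero, zero_mul, lo_zero])).exists_le_sylow
    rw [Subsingleton.elim P Q]
    exact hQ (Subgroup.mem_zpowers _)
  -- all elements of `P` lie in a conjugate of the upper unitriangular group, which is abelian
  obtain ⟨T, hT⟩ := (P.2.map H.subtype).exists_le_sylow
  have := Fintype.ofFinite L
  obtain ⟨g, hg⟩ := Linear.exists_sylow_eq_conj_SL p T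
  have h1 := hT (Subgroup.mem_map_of_mem H.subtype hu)
  have h2 := hT (Subgroup.mem_map_of_mem H.subtype hw)
  rw [hg] at h1 h2
  obtain ⟨y, ⟨s, rfl⟩, hs⟩ := h1
  obtain ⟨y, ⟨t, rfl⟩, ht⟩ := h2
  have hs' : MulAut.conj g (Linear.uSL s) = up (1 : L) := hs
  have ht' : MulAut.conj g (Linear.uSL t) = lo l := ht
  have hcomm : up (1 : L) * lo l = lo l * up 1 := by
    rw [← hs', ← ht', ← map_mul, ← map_mul, ← map_mul, ← map_mul, mul_comm s t]
  have h00 := congrArg
    (fun z : Matrix.SpecialLinearGroup (Fin 2) L => (z : Matrix (Fin 2) (Fin 2) L) 0 0) hcomm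
  simp [coe_up, coe_lo, Matrix.mul_apply, Fin.sum_univ_two] at h00
  exact hl h00

universe v in
/-- Two quadratic generators of a group which is not a `p`-group. -/
theorem exists_sl2_hom {k : Type v} [Field k] [Finite k] {p : ℕ} [Fact p.Prime] [CharP k p]
    {ι : Type*} [Fintype ι] [DecidableEq ι] [Nonempty ι] {Γ : Type*} [Group Γ] [Finite Γ]
    (ρ : Γ →* Matrix ι ι k) (hρ : Function.Injective ρ) {a b : Γ}
    (hgen : Subgroup.closure {a, b} = ⊤) (hu : (ρ a - 1) * (ρ a - 1) = 0)
    (hw : (ρ b - 1) * (ρ b - 1) = 0) (hnp : ¬ IsPGroup p Γ) :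
    ∃ (L : Type v) (_ : Field L) (_ : Finite L) (_ : CharP L p) (_ : Algebra k L) (l : L), l ≠ 0 ∧
      ∃ φ : Γ →* Matrix.SpecialLinearGroup (Fin 2) L, φ a = up 1 ∧ φ b = lo l ∧
        ∃ P : Matrix ι (Fin 2) L, (∀ g, (ρ g).map (algebraMap k L) * P = P * (φ g).1) ∧
          ∀ x : Fin 2 → L, P *ᵥ x = 0 → x = 0 := by
  classical
  set c := (ρ a - 1) * (ρ b - 1) + (ρ b - 1) * (ρ a - 1) with hc
  have hcn : ¬ IsNilpotent c := fun ⟨m, hm⟩ =>
    hnp (isPGroup_of_trace_nilpotent ρ hρ hgen hu hw hm)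
  let L := c.charpoly.SplittingField
  let f : k →+* L := algebraMap k L
  have : Finite L := Module.finite_of_finite k
  have hCP : CharP L p := charP_of_injective_algebraMap f.injective p
  obtain ⟨l, hl0, hroot⟩ : ∃ l : L, l ≠ 0 ∧ (c.map f).charpoly.IsRoot l := by
    by_contra hall
    push Not at hall
    apply hcn
    have hsplit : ((c.map f).charpoly).Splits := by
      rw [Matrix.charpoly_map]
      exact Polynomial.SplittingField.splits _
    have hroots : (c.map f).charpoly.roots = Multiset.replicate (Fintype.card ι) 0 := by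
      rw [Multiset.eq_replicate]
      refine ⟨?_, fun x hx => by_contra fun hne =>
        hall x hne (Polynomial.isRoot_of_mem_roots hx)⟩
      rw [← hsplit.natDegree_eq_card_roots, Matrix.charpoly_natDegree_eq_dim]
    have hX : (c.map f).charpoly = Polynomial.X ^ Fintype.card ι := by
      have := hsplit.eq_prod_roots_of_monic (Matrix.charpoly_monic _)
      rw [hroots] at this
      simpa using this
    refine ⟨Fintype.card ι, ?_⟩
    have hz := Matrix.aeval_self_charpoly (c.map f)
    rw [hX, map_pow, Polynomial.aeval_X] at hz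
    have hinj : Function.Injective (f.mapMatrix : Matrix ι ι k →+* Matrix ι ι L) := fun A B h =>
      Matrix.ext fun i j => f.injective (congrFun (congrFun h i) j)
    apply hinj
    rw [map_pow, map_zero]
    exact hz
  refine ⟨L, inferInstance, inferInstance, hCP, inferInstance, l, hl0, ?_⟩
  have hdet : (l • (1 : Matrix ι ι L) - c.map f).det = 0 := by
    rw [Polynomial.IsRoot, Matrix.eval_charpoly] at hroot
    rwa [Matrix.scalar_apply, ← Matrix.smul_one_eq_diagonal] at hroot
  obtain ⟨m, hm, hm0⟩ := Matrix.exists_mulVec_eq_zero_iff.2 hdet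
  have hmap : ∀ g, (f.mapMatrix (ρ g - 1) : Matrix ι ι L) = f.mapMatrix (ρ g) - 1 := fun g => by
    rw [map_sub, map_one]
  refine exists_hom_of_eigen ((f.mapMatrix : Matrix ι ι k →+* Matrix ι ι L).toMonoidHom.comp ρ)
    hgen ?_ ?_ hl0 hm ?_
  · show (f.mapMatrix (ρ a) - 1) * (f.mapMatrix (ρ a) - 1) = 0
    rw [← hmap, ← map_mul, hu, map_zero]
  · show (f.mapMatrix (ρ b) - 1) * (f.mapMatrix (ρ b) - 1) = 0
    rw [← hmap, ← map_mul, hw, map_zero]
  · show ((f.mapMatrix (ρ a) - 1) * (f.mapMatrix (ρ b) - 1) +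
      (f.mapMatrix (ρ b) - 1) * (f.mapMatrix (ρ a) - 1)) *ᵥ m = l • m
    rw [← hmap, ← hmap, ← map_mul, ← map_mul, ← map_add]
    rw [Matrix.sub_mulVec, Matrix.smul_mulVec, Matrix.one_mulVec, sub_eq_zero] at hm0
    exact hm0.symm

/-- With `p` odd, a group generated by two quadratic elements which is not a `p`-group has a
subgroup mapping onto `SL(2,p)`. -/
theorem exists_surjection {k : Type*} [Field k] [Finite k] {p : ℕ} [Fact p.Prime] [CharP k p]
    (hp : p ≠ 2) {ι : Type*} [Fintype ι] [DecidableEq ι] [Nonempty ι] {Γ : Type*} [Group Γ]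
    [Finite Γ] (ρ : Γ →* Matrix ι ι k) (hρ : Function.Injective ρ) {a b : Γ}
    (hgen : Subgroup.closure {a, b} = ⊤) (hu : (ρ a - 1) * (ρ a - 1) = 0)
    (hw : (ρ b - 1) * (ρ b - 1) = 0) (hnp : ¬ IsPGroup p Γ) :
    ∃ (K : Subgroup Γ) (f : K →* Matrix.SpecialLinearGroup (Fin 2) (ZMod p)),
      Function.Surjective f := by
  obtain ⟨L, hLf, hLfin, hLc, hLa, l, hl, φ, ha, hb, -⟩ := exists_sl2_hom ρ hρ hgen hu hw hnp
  have hrange : φ.range = Subgroup.closure {up 1, lo l} := by
    rw [MonoidHom.range_eq_map, ← hgen, MonoidHom.map_closure, Set.image_pair, ha, hb]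
  obtain ⟨ψ, hψ, hle⟩ := hasSL2Copy_of_sylow hp φ.range
    (by rw [hrange]; exact one_lt_card_sylow_range hl)
  refine ⟨ψ.range.comap φ, (MonoidHom.ofInjective hψ).symm.toMonoidHom.comp
    ((φ.comp (ψ.range.comap φ).subtype).codRestrict ψ.range fun x => x.2), ?_⟩
  refine (MonoidHom.ofInjective hψ).symm.surjective.comp ?_
  rintro ⟨y, hy⟩
  obtain ⟨g, rfl⟩ := hle hy
  exact ⟨⟨g, hy⟩, rfl⟩

end Cfsg.Agent.Lib.Quadratic
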