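import Cfsg.Agent.Lib.Quadratic.QdSylow
import Mathlib.GroupTheory.Perm.ViaEmbedding

/-!
# `Qd(p)` inside and involved in permutation groups
-/

set_option autoImplicit false
set_option linter.unusedSectionVars false

namespace Cfsg.Agent.Lib.Quadratic.QdPerm

open Cfsg.Agent.Lib.Quadratic
open Cfsg.Agent.Lib.PLocal.SLTwo (up lo up_add lo_add up_zero lo_zero closure_pair_eq_top up_natCast lo_natCast)
open Matrix

variable {p : ℕ} [hp : Fact p.Prime]

/-- A `p`-subgroup of a symmetric group of degree less than `p²` is commutative. -/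
theorem comm_of_isPGroup {n : ℕ} (hn : n < p ^ 2) {P : Subgroup (Equiv.Perm (Fin n))}
    (hP : IsPGroup p P) (x y : P) : x * y = y * x := by
  classical
  refine Subtype.ext (Equiv.ext fun w => ?_)
  let O := MulAction.orbit P w
  let ρ : P →* Equiv.Perm O := MulAction.toPermHom P O
  obtain ⟨k, hk⟩ := hP.card_orbit w
  have hk1 : Nat.card O ≤ p := by
    have hle : Nat.card O ≤ n := by
      simpa using Nat.card_le_card_of_injective (Subtype.val : O → Fin n) Subtype.val_injective
    rw [hk] at hle ⊢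
    have := (Nat.pow_lt_pow_iff_right hp.out.one_lt).1 (hle.trans_lt hn)
    calc p ^ k ≤ p ^ 1 := Nat.pow_le_pow_right hp.out.pos (by omega)
      _ = p := pow_one p
  haveI : IsMulCommutative ρ.range := by
    obtain ⟨j, hj⟩ := IsPGroup.iff_card.1
      (IsPGroup.of_surjective hP ρ.rangeRestrict ρ.rangeRestrict_surjective)
    have hd := Subgroup.card_subgroup_dvd_card ρ.range
    rw [hj, Nat.card_perm] at hd
    have hj1 : j ≤ 1 := by
      by_contra h2
      have h3 : p ^ 2 ∣ p.factorial :=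
        ((pow_dvd_pow p (by omega : 2 ≤ j)).trans hd).trans (Nat.factorial_dvd_factorial hk1)
      rw [sq, ← Nat.mul_factorial_pred hp.out.ne_zero] at h3
      have h4 := (hp.out.dvd_factorial).1 ((Nat.mul_dvd_mul_iff_left hp.out.pos).1 h3)
      have := hp.out.one_lt
      omega
    interval_cases j
    · haveI : IsCyclic ρ.range := by
        haveI : Subsingleton ρ.range := (Nat.card_eq_one_iff_unique.1 (by simpa using hj)).1
        infer_instance
      exact IsCyclic.isMulCommutative
    · haveI : IsCyclic ρ.range := isCyclic_of_prime_card (p := p) (by simpa using hj)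
      exact IsCyclic.isMulCommutative
  have h := congrArg Subtype.val (mul_comm' (ρ.rangeRestrict x) (ρ.rangeRestrict y))
  have h' : ρ (x * y) = ρ (y * x) := by rw [map_mul, map_mul]; exact h
  exact congrArg Subtype.val (Equiv.Perm.congr_fun h' ⟨w, MulAction.mem_orbit_self w⟩)

theorem not_involves {n : ℕ} (hn : n < p ^ 2) :
    ¬ Cfsg.Involves ↥(Cfsg.qd p) ↥(alternatingGroup (Fin n)) := by
  intro h
  obtain ⟨K, f, hf⟩ := exists_surjective_of_involves h
  obtain ⟨T⟩ : Nonempty (Sylow p K) := inferInstance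
  let S := T.mapSurjective hf
  let U : Sylow p ↥(Cfsg.qd p) := (IsPGroup.of_card (QdSylow.card_U (p := p))).toSylow QdSylow.not_dvd_index
  let e : ↥(QdSylow.U p) ≃* ↥S := Sylow.equiv U S
  let T' : Subgroup (Equiv.Perm (Fin n)) :=
    (T : Subgroup K).map ((alternatingGroup (Fin n)).subtype.comp K.subtype)
  have hT' : IsPGroup p T' := T.2.map _
  have hcomm : ∀ a b : ↥S, a * b = b * a := by
    rintro ⟨_, x, hx, rfl⟩ ⟨_, y, hy, rfl⟩
    have h1 := congrArg Subtype.val (comm_of_isPGroup hn hT' ⟨_, x, hx, rfl⟩ ⟨_, y, hy, rfl⟩)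
    have h2 : x * y = y * x := Subtype.ext (Subtype.ext h1)
    exact Subtype.ext (show f x * f y = f y * f x by rw [← map_mul, ← map_mul, h2])
  have h1 := e.injective ((map_mul e (QdSylow.el (1, 0, 0)) (QdSylow.el (0, 1, 0))).trans
    ((hcomm _ _).trans (map_mul e _ _).symm))
  rw [QdSylow.el_mul, QdSylow.el_mul] at h1
  have := congrArg (fun t => t.2.2) (QdSylow.el_bijective.1 h1)
  simp at this

/-- The action on vectors. -/
def act (g : Cfsg.qd p) (w : Fin 2 → ZMod p) : Fin 2 → ZMod p :=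
  fun i => ((g : Matrix.SpecialLinearGroup (Fin 3) (ZMod p)).1 *ᵥ ![w 0, w 1, 1]) i.castSucc

theorem act_affine (A : Matrix.SpecialLinearGroup (Fin 2) (ZMod p)) (v w : Fin 2 → ZMod p) :
    act ⟨affine A v, affine_mem_qd A v⟩ w = A.1 *ᵥ w + v := by
  ext i
  fin_cases i <;> simp [act, coe_affine, Matrix.mulVec, dotProduct, Fin.sum_univ_three, Fin.sum_univ_two]

theorem exists_eq (g : Cfsg.qd p) : ∃ A v, g = ⟨affine A v, affine_mem_qd A v⟩ := by
  obtain ⟨A, v, h⟩ := exists_affine_of_mem_qd g.2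
  exact ⟨A, v, Subtype.ext h⟩

theorem act_mul (g h : Cfsg.qd p) (w : Fin 2 → ZMod p) : act (g * h) w = act g (act h w) := by
  obtain ⟨A, v, rfl⟩ := exists_eq g
  obtain ⟨B, u, rfl⟩ := exists_eq h
  have : (⟨affine A v, affine_mem_qd A v⟩ : Cfsg.qd p) * ⟨affine B u, affine_mem_qd B u⟩ =
      ⟨affine (A * B) (v + A.1 *ᵥ u), affine_mem_qd _ _⟩ := Subtype.ext (affine_mul A B v u)
  rw [this, act_affine, act_affine, act_affine, Matrix.mulVec_add, Matrix.mulVec_mulVec,
    Matrix.SpecialLinearGroup.coe_mul]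
  abel

theorem act_one (w : Fin 2 → ZMod p) : act (1 : Cfsg.qd p) w = w := by
  have h := act_affine (p := p) 1 0 w
  rw [Matrix.SpecialLinearGroup.coe_one, Matrix.one_mulVec, add_zero] at h
  refine (congrArg (act · w) (?_ : (1 : Cfsg.qd p) = ⟨affine 1 0, affine_mem_qd _ _⟩)).trans h
  exact Subtype.ext affine_one.symm

/-- The affine action. -/
def actHom (p : ℕ) [Fact p.Prime] : Cfsg.qd p →* Equiv.Perm (Fin 2 → ZMod p) :=
  MonoidHom.mk' (fun g =>
    { toFun := act g
      invFun := act g⁻¹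
      left_inv := fun w => by rw [← act_mul, inv_mul_cancel, act_one]
      right_inv := fun w => by rw [← act_mul, mul_inv_cancel, act_one] })
    fun g h => Equiv.ext (act_mul g h)

theorem actHom_injective : Function.Injective (actHom p) := by
  intro g h hgh
  obtain ⟨A, v, rfl⟩ := exists_eq g
  obtain ⟨B, u, rfl⟩ := exists_eq h
  have h1 : ∀ w, A.1 *ᵥ w + v = B.1 *ᵥ w + u := fun w => by
    rw [← act_affine, ← act_affine]; exact Equiv.Perm.congr_fun hgh w
  have hvu : v = u := by simpa using h1 0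
  subst hvu
  have hAB : A = B := Subtype.ext (Matrix.toLin'.injective (LinearMap.ext fun w => by
    simpa using h1 w))
  subst hAB
  rfl

/-- `Qd(p)` has no character of order two. -/
theorem sign_eq_one (hp2 : p ≠ 2) (χ : Cfsg.qd p →* ℤˣ) (g : Cfsg.qd p) : χ g = 1 := by
  have hodd : ∀ x : Cfsg.qd p, x ^ p = 1 → χ x = 1 := fun x hx => by
    have h1 : χ x ^ p = 1 := by rw [← map_pow, hx, map_one]
    rcases Int.units_eq_one_or (χ x) with h | h
    · exact h
    · rw [h, (hp.out.odd_of_ne_two hp2).neg_one_pow] at h1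
      exact absurd h1 (by decide)
  obtain ⟨A, v, rfl⟩ := exists_eq g
  let L : Matrix.SpecialLinearGroup (Fin 2) (ZMod p) →* Cfsg.qd p :=
    MonoidHom.mk' (fun A => ⟨affine A 0, affine_mem_qd A 0⟩) fun A B => Subtype.ext (by
      rw [Subgroup.coe_mul]; simp [affine_mul])
  have hker : χ.comp L = 1 := by
    refine MonoidHom.eq_of_eqOn_dense closure_pair_eq_top ?_
    rintro _ (rfl | rfl)
    · refine hodd _ ?_
      rw [← map_pow, ← up_natCast, ZMod.natCast_self, up_zero, map_one]
    · refine hodd _ ?_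
      rw [← map_pow, ← lo_natCast, ZMod.natCast_self, lo_zero, map_one]
  have hsplit : (⟨affine A v, affine_mem_qd A v⟩ : Cfsg.qd p) =
      transHom p (Multiplicative.ofAdd v) * L A := Subtype.ext (by
    rw [Subgroup.coe_mul, coe_transHom]
    show _ = _ * affine A 0
    simp [affine_mul])
  have ht : χ (transHom p (Multiplicative.ofAdd v)) = 1 := hodd _ (by
    rw [← map_pow]
    have : (Multiplicative.ofAdd v) ^ p = 1 := by
      rw [← toAdd_eq_zero, toAdd_pow, ← Nat.cast_smul_eq_nsmul (ZMod p), ZMod.natCast_self, zero_smul]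
    rw [this, map_one])
  rw [hsplit, map_mul, ht, one_mul]
  exact DFunLike.congr_fun hker A

theorem exists_subgroup (hp2 : p ≠ 2) {n : ℕ} (hn : p ^ 2 ≤ n) :
    ∃ H : Subgroup (alternatingGroup (Fin n)), Nonempty (↥H ≃* ↥(Cfsg.qd p)) := by
  classical
  obtain ⟨ι⟩ : Nonempty ((Fin 2 → ZMod p) ↪ Fin n) :=
    Function.Embedding.nonempty_of_card_le (by simpa using hn)
  let φ : Cfsg.qd p →* Equiv.Perm (Fin n) := (Equiv.Perm.viaEmbeddingHom ι).comp (actHom p)
  let ψ : Cfsg.qd p →* alternatingGroup (Fin n) := φ.codRestrict _ fun g =>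
    Equiv.Perm.mem_alternatingGroup.2 (sign_eq_one hp2 (Equiv.Perm.sign.comp φ) g)
  have hinj : Function.Injective ψ := fun a b h =>
    ((Equiv.Perm.viaEmbeddingHom_injective ι).comp actHom_injective)
      (congrArg Subtype.val h : φ a = φ b)
  exact ⟨ψ.range, ⟨(MonoidHom.ofInjective hinj).symm⟩⟩

end Cfsg.Agent.Lib.Quadratic.QdPerm
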