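import Cfsg.Agent.Lib.ConjFunctor.QdFusion
import Cfsg.Agent.Lib.FusionP3.GenExtra.Iso
import Cfsg.Agent.Lib.PGroups.Frattini

/-!
# The Sylow `p`-subgroup of `Qd(p)`
-/

set_option autoImplicit false
set_option linter.unusedSectionVars false

namespace Cfsg.Agent.Lib.Quadratic.QdSylow

open Cfsg.Agent.Lib.ConjFunctor.QdFusion
open scoped commutatorElement

variable {p : ℕ} [hp : Fact p.Prime]

/-- The standard Sylow subgroup. -/
noncomputable def U (p : ℕ) [Fact p.Prime] : Subgroup (Cfsg.qd p) := upper (MulEquiv.refl _)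

theorem mem_U {x : Cfsg.qd p} : x ∈ U p ↔ ∃ a b c, x = M a b c := mem_upper (MulEquiv.refl _)

/-- Coordinates. -/
noncomputable def el (t : ZMod p × ZMod p × ZMod p) : U p :=
  ⟨M t.1 t.2.1 t.2.2, mem_U.2 ⟨_, _, _, rfl⟩⟩

theorem el_bijective : Function.Bijective (el (p := p)) := by
  refine ⟨fun s t h => ?_, fun x => ?_⟩
  · obtain ⟨h1, h2, h3⟩ := M_inj (congrArg Subtype.val h)
    exact Prod.ext h1 (Prod.ext h2 h3)
  · obtain ⟨a, b, c, h⟩ := mem_U.1 x.2
    exact ⟨(a, b, c), Subtype.ext h.symm⟩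

theorem el_mul (a b c a' b' c' : ZMod p) :
    el (a, b, c) * el (a', b', c') = el (a + a', b + b', c + c' + a * b') := Subtype.ext (M_mul _ _ _ _ _ _)

theorem el_zero : el ((0 : ZMod p), 0, 0) = 1 := Subtype.ext M_zero

theorem el_inv (a b c : ZMod p) : (el (a, b, c))⁻¹ = el (-a, -b, a * b - c) := Subtype.ext (M_inv _ _ _)

theorem card_U : Nat.card (U p) = p ^ 3 := by
  rw [← Nat.card_congr (Equiv.ofBijective _ el_bijective), Nat.card_prod, Nat.card_prod, Nat.card_zmod]
  ring

theorem el_pow (a b c : ZMod p) (k : ℕ) : el (a, b, c) ^ k =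
    el ((k : ZMod p) * a, (k : ZMod p) * b, (k : ZMod p) * c + (k.choose 2 : ZMod p) * (a * b)) := by
  induction k with
  | zero => simp [el_zero]
  | succ k ih =>
    rw [pow_succ, ih, el_mul]
    congr 2
    · push_cast; ring
    · congr 1
      · push_cast; ring
      · rw [Nat.choose_succ_succ', Nat.choose_one_right]; push_cast; ring

theorem pow_prime (hp2 : p ≠ 2) (x : U p) : x ^ p = 1 := by
  obtain ⟨⟨a, b, c⟩, rfl⟩ := el_bijective.2 x
  have h2 : ((p.choose 2 : ℕ) : ZMod p) = 0 := by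
    rw [ZMod.natCast_eq_zero_iff]
    exact hp.out.dvd_choose_self two_ne_zero (lt_of_le_of_ne hp.out.two_le (Ne.symm hp2))
  rw [el_pow, ZMod.natCast_self, h2]
  simp [el_zero]

theorem commutator_el (a b c a' b' c' : ZMod p) :
    ⁅el (a, b, c), el (a', b', c')⁆ = el (0, 0, a * b' - a' * b) := by
  rw [commutatorElement_def, el_inv, el_inv, el_mul, el_mul, el_mul]
  congr 2
  · ring
  · congr 1 <;> ring

theorem center_U : ∀ x : U p, x ∈ Subgroup.center (U p) ↔ ∃ c, x = el (0, 0, c) := by
  intro x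
  constructor
  · intro hx
    obtain ⟨⟨a, b, c⟩, rfl⟩ := el_bijective.2 x
    have h1 := congrArg Subtype.val (Subgroup.mem_center_iff.1 hx (el (1, 0, 0)))
    have h2 := congrArg Subtype.val (Subgroup.mem_center_iff.1 hx (el (0, 1, 0)))
    simp only [Subgroup.coe_mul, el, M_mul] at h1 h2
    have hb : b = 0 := by simpa using (M_inj h1).2.2
    have ha : a = 0 := by simpa using (M_inj h2).2.2
    exact ⟨c, by rw [ha, hb]⟩
  · rintro ⟨c, rfl⟩
    refine Subgroup.mem_center_iff.2 fun y => ?_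
    obtain ⟨⟨a, b, d⟩, rfl⟩ := el_bijective.2 y
    rw [el_mul, el_mul]
    congr 2
    · ring
    · congr 1 <;> ring

theorem isExtraspecial_U (hp2 : p ≠ 2) :
    Cfsg.IsExtraspecial p (U p) ∧ Monoid.exponent (U p) = p := by
  have hP : IsPGroup p (U p) := IsPGroup.of_card card_U
  have hcomm : commutator (U p) = Subgroup.center (U p) := by
    refine le_antisymm ?_ fun x hx => ?_
    · rw [commutator_def, Subgroup.commutator_le]
      intro x _ y _
      obtain ⟨⟨a, b, c⟩, rfl⟩ := el_bijective.2 x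
      obtain ⟨⟨a', b', c'⟩, rfl⟩ := el_bijective.2 y
      exact (center_U _).2 ⟨_, commutator_el _ _ _ _ _ _⟩
    · obtain ⟨c, rfl⟩ := (center_U x).1 hx
      have h := commutator_el (c : ZMod p) 0 0 0 1 0
      rw [mul_one, zero_mul, sub_zero] at h
      rw [← h, commutator_def]
      exact Subgroup.commutator_mem_commutator (Subgroup.mem_top _) (Subgroup.mem_top _)
  have hfr : frattini (U p) = Subgroup.center (U p) := le_antisymm
    (Cfsg.Agent.Lib.PGroups.frattini_le_of_pow_commutator (Subgroup.center (U p))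
      (fun g => by rw [pow_prime hp2 g]; exact one_mem _) hcomm.le)
    (hcomm.ge.trans (Cfsg.Agent.Lib.PGroups.commutator_le_frattini hP))
  refine ⟨⟨⟨hP, hfr, hcomm⟩, ?_⟩, ?_⟩
  · refine Eq.trans ?_ (Nat.card_zmod p)
    exact (Nat.card_congr (Equiv.ofBijective
      (fun c : ZMod p => (⟨el (0, 0, c), (center_U _).2 ⟨c, rfl⟩⟩ : Subgroup.center (U p)))
      ⟨fun c d h => (congrArg (fun t => t.2.2)
          (el_bijective.1 (congrArg Subtype.val h)) : _),
        fun x => by
          obtain ⟨c, hc⟩ := (center_U x.1).1 x.2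
          exact ⟨c, Subtype.ext hc.symm⟩⟩)).symm
  · rcases (Nat.dvd_prime hp.out).1 (Monoid.exponent_dvd_of_forall_pow_eq_one (pow_prime hp2)) with
      h1 | h1
    · haveI := Monoid.exp_eq_one_iff.1 h1
      have := card_U (p := p)
      rw [Nat.card_unique] at this
      exact absurd this (Nat.one_lt_pow three_ne_zero hp.out.one_lt).ne
    · exact h1

theorem not_dvd_index : ¬ p ∣ (U p).index := by
  rw [U, upper, Subgroup.index_comap_of_surjective _
    (show Function.Surjective ((linPart p).comp (MulEquiv.refl (Cfsg.qd p)).toMonoidHom) from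
      Quadratic.linPart_surjective)]
  exact range_upHom_index

end Cfsg.Agent.Lib.Quadratic.QdSylow
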