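import Cfsg.Agent.Lib.Quadratic.QdProps
import Cfsg.Agent.Lib.ZJ.Control

/-!
For `p` odd: `N(Z(J(S)))` controls strong fusion in `Qd(p)`-free groups, and does not in `Qd(p)`.
-/

namespace Cfsg.Agent.Lib.Quadratic

open Cfsg.Agent.Lib
open Cfsg.Agent.Lib.PLocal.SLTwo (up lo up_add lo_add up_zero lo_zero val_mul)

universe u

variable {p : ℕ} [Fact p.Prime]

/-- A `Qd(p)`-free group is `p`-stable on all its normal `p`-subgroups. -/
theorem stable_of_qdFree (hp : p ≠ 2) {G : Type u} [Group G] [Finite G]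
    (h : ¬ Cfsg.Involves ↥(Cfsg.qd p) G) (P : Subgroup G) [P.Normal] (hP : IsPGroup p P) :
    Cfsg.IsPStableOn p P := by
  intro a ha
  rcases inPRad_or_involves hp _ G le_rfl P inferInstance hP a (quad_of_commutator_eq_bot ha) with
    hr | hi
  · exact (inPRad_iff _ a).1 hr
  · exact absurd hi h

open Cfsg.Agent.Lib.ConjFunctor in
/-- A functor normal in all constrained `Qd(p)`-free groups controls strong fusion in
`Qd(p)`-free groups. -/
theorem exists_conj_of_functor {G : Type u} [Group G] [Finite G]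
    (hG : ¬ Cfsg.Involves ↥(Cfsg.qd p) G) (W : ∀ (Q : Type u) [Group Q], Subgroup Q)
    (hW : Cfsg.IsCharPFunctor.{u} p W)
    (hn : ∀ (X : Type u) [Group X] [Finite X], ¬ Cfsg.Involves ↥(Cfsg.qd p) X →
      Subgroup.centralizer (Cfsg.pCore p X : Set X) ≤ Cfsg.pCore p X →
      ∀ T : Sylow p X, (Cfsg.inducedFunctor W (T : Subgroup X)).Normal)
    (S : Sylow p G) {A : Set G} (hA : A ⊆ (S : Set G)) {g : G}
    (hgA : (fun a => g * a * g⁻¹) '' A ⊆ (S : Set G)) :
    ∃ n ∈ Subgroup.normalizer (Cfsg.inducedFunctor W (S : Subgroup G) : Set G),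
      ∀ a ∈ A, n * a * n⁻¹ = g * a * g⁻¹ := by
  have h𝓦 : ∀ V ∈ ({W} : Set (∀ (Q : Type u) [Group Q], Subgroup Q)),
      Cfsg.IsCharPFunctor.{u} p V := by
    rintro V rfl; exact hW
  have hsf := Reduce.sf_main (G := G) h𝓦 (fun X _ _ hX hc T B x _ hB hxB => by
    refine Reach.Chain.single (Local.mem_stepSet_nFam.2 ⟨_, ⟨W, rfl, rfl⟩, trivial, ?_⟩) hB hxB
    obtain ⟨K, f, hf⟩ := hX
    have hX' : ¬ Cfsg.Involves ↥(Cfsg.qd p) X := fun hi =>
      hG (involves_trans hi (involves_of_surjective f hf))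
    have := hn X hX' hc T
    rw [Subgroup.normalizer_eq_top]
    trivial) G (Section.IsSection.refl G) S
  exact (hsf A g trivial hA hgA).collapse fun y hy => by
    obtain ⟨V, hV, hy⟩ := Local.mem_stepSet_nFam.1 hy
    obtain ⟨_, rfl, rfl⟩ := hV
    exact hy.2

/-- Glauberman's theorem for `Qd(p)`-free groups, abelian Thompson subgroup. -/
theorem exists_conj_centerThompsonAOf {G : Type u} [Group G] [Finite G] (hp : p ≠ 2)
    (hG : ¬ Cfsg.Involves ↥(Cfsg.qd p) G) (S : Sylow p G) {A : Set G} (hA : A ⊆ (S : Set G))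
    {g : G} (hgA : (fun a => g * a * g⁻¹) '' A ⊆ (S : Set G)) :
    ∃ n ∈ Subgroup.normalizer (Cfsg.centerThompsonAOf (S : Subgroup G) : Set G),
      ∀ a ∈ A, n * a * n⁻¹ = g * a * g⁻¹ := by
  rw [← ZJ.inducedFunctor_zjA]
  exact exists_conj_of_functor hG _ (ZJ.isCharPFunctor_zjA p)
    (fun X _ _ hX hc T => by
      rw [ZJ.inducedFunctor_zjA]
      exact ZJ.centerThompsonAOf_normal hp hc (stable_of_qdFree hp hX) T) S hA hgA

/-- Glauberman's theorem for `Qd(p)`-free groups, elementary Thompson subgroup. -/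
theorem exists_conj_centerThompsonOf {G : Type u} [Group G] [Finite G] (hp : p ≠ 2)
    (hG : ¬ Cfsg.Involves ↥(Cfsg.qd p) G) (S : Sylow p G) {A : Set G} (hA : A ⊆ (S : Set G))
    {g : G} (hgA : (fun a => g * a * g⁻¹) '' A ⊆ (S : Set G)) :
    ∃ n ∈ Subgroup.normalizer (Cfsg.centerThompsonOf p (S : Subgroup G) : Set G),
      ∀ a ∈ A, n * a * n⁻¹ = g * a * g⁻¹ := by
  rw [← ZJ.inducedFunctor_zjE]
  exact exists_conj_of_functor hG _ (ZJ.isCharPFunctor_zjE p)
    (fun X _ _ hX hc T => by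
      rw [ZJ.inducedFunctor_zjE]
      exact ZJ.centerThompsonOf_normal hp hc (stable_of_qdFree hp hX) T) S hA hgA

theorem affine_upLine (a b c d : ZMod p) :
    affine (up (F := ZMod p) (a + c)) ![b + d, 0] =
      affine (up (F := ZMod p) a) ![b, 0] * affine (up (F := ZMod p) c) ![d, 0] := by
  rw [affine_mul, up_add]
  congr 1
  ext i
  fin_cases i <;> simp [Dickson.coe_up, dotProduct, Fin.sum_univ_two]

/-- The map onto the abelian subgroup `⟨up 1, e₁⟩` of `Qd(p)`. -/
def upLineFun (p : ℕ) [Fact p.Prime] (a : Multiplicative (ZMod p × ZMod p)) : Cfsg.qd p :=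
  ⟨affine (up (Multiplicative.toAdd a).1) ![(Multiplicative.toAdd a).2, 0], affine_mem_qd _ _⟩

theorem upLineFun_mul (a b : Multiplicative (ZMod p × ZMod p)) :
    upLineFun p (a * b) = upLineFun p a * upLineFun p b :=
  Subtype.ext (affine_upLine _ _ _ _)

/-- The abelian subgroup `⟨up 1, e₁⟩` of `Qd(p)`. -/
def upLine (p : ℕ) [Fact p.Prime] : Multiplicative (ZMod p × ZMod p) →* Cfsg.qd p :=
  MonoidHom.mk' (upLineFun p) upLineFun_mul

theorem upLine_injective : Function.Injective (upLine p) := by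
  intro a b h
  obtain ⟨h1, h2⟩ := affine_inj (congrArg Subtype.val h)
  apply Multiplicative.toAdd.injective
  ext
  · have := congrArg (fun M : Matrix.SpecialLinearGroup (Fin 2) (ZMod p) => M.1 0 1) h1
    simpa [Dickson.coe_up] using this
  · simpa using congrFun h2 0

/-- Conjugation on translations is the natural action. -/
theorem conj_transHom (M : Cfsg.qd p) (w : Fin 2 → ZMod p) :
    M * transHom p (Multiplicative.ofAdd w) * M⁻¹ =
      transHom p (Multiplicative.ofAdd ((linPart p M).1.mulVec w)) := by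
  obtain ⟨A, v, hM⟩ := exists_affine_of_mem_qd M.2
  obtain rfl : M = ⟨affine A v, affine_mem_qd A v⟩ := Subtype.ext hM
  rw [linPart_affine, mul_inv_eq_iff_eq_mul]
  apply Subtype.ext
  rw [Subgroup.coe_mul, Subgroup.coe_mul, coe_transHom, coe_transHom, toAdd_ofAdd, toAdd_ofAdd,
    affine_mul, affine_mul, mul_one, one_mul, Matrix.SpecialLinearGroup.coe_one, Matrix.one_mulVec,
    add_comm]

/-- An `SL₂`-invariant additive subgroup of the natural module is trivial or everything. -/
theorem mem_of_invariant (S : AddSubgroup (Fin 2 → ZMod p))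
    (hS : ∀ (A : Matrix.SpecialLinearGroup (Fin 2) (ZMod p)), ∀ v ∈ S, A.1.mulVec v ∈ S)
    {v : Fin 2 → ZMod p} (hv : v ∈ S) (hv0 : v ≠ 0) (w : Fin 2 → ZMod p) : w ∈ S := by
  have hsmul : ∀ (c : ZMod p) (x : Fin 2 → ZMod p), x ∈ S → c • x ∈ S := by
    intro c x hx
    rw [← ZMod.natCast_zmod_val c, Nat.cast_smul_eq_nsmul]
    exact S.nsmul_mem hx _
  have hup : ∀ x ∈ S, (![x 1, 0] : Fin 2 → ZMod p) ∈ S := by
    intro x hx
    have h := S.sub_mem (hS (up 1) x hx) hx
    convert h using 1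
    ext i
    fin_cases i <;> simp [Dickson.coe_up, Matrix.mulVec, dotProduct, Fin.sum_univ_two]
  have hlo : ∀ x ∈ S, (![0, x 0] : Fin 2 → ZMod p) ∈ S := by
    intro x hx
    have h := S.sub_mem (hS (lo 1) x hx) hx
    convert h using 1
    ext i
    fin_cases i <;> simp [Dickson.coe_lo, Matrix.mulVec, dotProduct, Fin.sum_univ_two]
  have he : ∃ c : ZMod p, c ≠ 0 ∧ (![c, 0] : Fin 2 → ZMod p) ∈ S := by
    by_cases h1 : v 1 = 0
    · refine ⟨v 0, fun h0 => hv0 ?_, ?_⟩
      · ext i; fin_cases i <;> simp [h0, h1]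
      · simpa using hup _ (hlo _ hv)
    · exact ⟨v 1, h1, hup _ hv⟩
  obtain ⟨c, hc, h1⟩ := he
  have h1' : (![1, 0] : Fin 2 → ZMod p) ∈ S := by
    have h := hsmul c⁻¹ _ h1
    convert h using 1
    ext i
    fin_cases i <;> simp [hc]
  have h2' : (![0, 1] : Fin 2 → ZMod p) ∈ S := by simpa using hlo _ h1'
  have hw := S.add_mem (hsmul (w 0) _ h1') (hsmul (w 1) _ h2')
  convert hw using 1
  ext i
  fin_cases i <;> simp

/-- In `Qd(p)` the normalizer of `Z(J(T))` does not control strong fusion. -/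
theorem not_controls_centerThompsonAOf {X : Type*} [Group X] [Finite X] (e : X ≃* ↥(Cfsg.qd p)) :
    ∃ T : Sylow p X,
      ¬ Cfsg.ControlsStrongFusion p (Cfsg.centerThompsonAOf (T : Subgroup X)) := by
  set f : Multiplicative (Fin 2 → ZMod p) →* X := e.symm.toMonoidHom.comp (transHom p) with hf
  set π : X →* Matrix.SpecialLinearGroup (Fin 2) (ZMod p) := (linPart p).comp e.toMonoidHom with hπ
  have hfr : f.range = π.ker := by
    rw [hf, hπ, MonoidHom.range_comp, transHom_ker_linPart]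
    ext x
    constructor
    · rintro ⟨y, hy, rfl⟩
      simpa [MonoidHom.mem_ker] using hy
    · intro hx
      exact ⟨e x, hx, e.symm_apply_apply x⟩
  set V := f.range with hV
  haveI : V.Normal := hfr ▸ MonoidHom.normal_ker π
  have hfinj : Function.Injective f := e.symm.injective.comp fun a b h => by
    have h2 := congrArg Subtype.val h
    rw [coe_transHom, coe_transHom] at h2
    exact Multiplicative.toAdd.injective (affine_inj h2).2
  have hact : ∀ (x : X) (w : Fin 2 → ZMod p), x * f (Multiplicative.ofAdd w) * x⁻¹ =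
      f (Multiplicative.ofAdd ((π x).1.mulVec w)) := by
    intro x w
    apply e.injective
    simp only [hf, hπ, MonoidHom.comp_apply, MulEquiv.coe_toMonoidHom, map_mul, map_inv,
      MulEquiv.apply_symm_apply]
    exact conj_transHom _ w
  have hfaith : ∀ x : X, (∀ v ∈ V, x * v * x⁻¹ = v) → x ∈ V := by
    intro x hx
    rw [hfr, MonoidHom.mem_ker]
    apply Subtype.ext
    apply Matrix.toLin'.injective
    refine LinearMap.ext fun w => ?_
    simp only [Matrix.toLin'_apply, Matrix.SpecialLinearGroup.coe_one, Matrix.one_mulVec]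
    exact Multiplicative.ofAdd.injective (hfinj ((hact x w).symm.trans (hx _ ⟨_, rfl⟩)))
  have hπs : Function.Surjective π := linPart_surjective.comp e.surjective
  have hirr : ∀ N : Subgroup X, N.Normal → N ≤ V → N ≠ ⊥ → V ≤ N := by
    intro N hN hle hne
    let S : AddSubgroup (Fin 2 → ZMod p) :=
      { carrier := {w | f (Multiplicative.ofAdd w) ∈ N}
        zero_mem' := by simp
        add_mem' := fun {a b} ha hb => by
          simp only [Set.mem_setOf_eq, ofAdd_add, map_mul] at *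
          exact N.mul_mem ha hb
        neg_mem' := fun {a} ha => by
          simp only [Set.mem_setOf_eq, ofAdd_neg, map_inv] at *
          exact N.inv_mem ha }
    obtain ⟨x, hxN, hx1⟩ := Subgroup.ne_bot_iff_exists_ne_one.1 hne |> fun ⟨⟨a, ha⟩, hb⟩ =>
      (⟨a, ha, fun h => hb (Subtype.ext h)⟩ : ∃ a, a ∈ N ∧ a ≠ 1)
    obtain ⟨v, rfl⟩ := hle hxN
    rintro _ ⟨w, rfl⟩
    refine mem_of_invariant S (fun A a ha => ?_) (v := Multiplicative.toAdd v) hxN
      (fun h => hx1 (by rw [toAdd_eq_zero.1 h, map_one])) (Multiplicative.toAdd w)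
    obtain ⟨y, rfl⟩ := hπs A
    show f (Multiplicative.ofAdd _) ∈ N
    rw [← hact]
    exact hN.conj_mem _ ha y
  set B : Subgroup X := (e.symm.toMonoidHom.comp (upLine p)).range with hB
  have hBinj : Function.Injective (e.symm.toMonoidHom.comp (upLine p)) :=
    e.symm.injective.comp upLine_injective
  have hcV : Nat.card V = p ^ 2 := by
    rw [← Nat.card_congr (MonoidHom.ofInjective hfinj).toEquiv]
    simp [Nat.card_eq_fintype_card]
  have hcB : Nat.card B = p ^ 2 := by
    rw [← Nat.card_congr (MonoidHom.ofInjective hBinj).toEquiv]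
    simp [Nat.card_eq_fintype_card, sq]
  have hBc : IsMulCommutative B := ZJ.mulComm_of_comm (by
    rintro _ ⟨a, rfl⟩ _ ⟨b, rfl⟩
    rw [← map_mul, ← map_mul, mul_comm])
  have hBne : ¬ B ≤ V := by
    intro h
    have hmem := h ⟨Multiplicative.ofAdd (1, 0), rfl⟩
    rw [hfr, MonoidHom.mem_ker] at hmem
    simp only [hπ, MonoidHom.comp_apply, MulEquiv.coe_toMonoidHom, MulEquiv.apply_symm_apply] at hmem
    have h1 : linPart p (upLine p (Multiplicative.ofAdd (1, 0))) = up 1 := linPart_affine _ _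
    rw [h1] at hmem
    have := congrArg (fun M : Matrix.SpecialLinearGroup (Fin 2) (ZMod p) => M.1 0 1) hmem
    simp [Dickson.coe_up] at this
  have hPV : IsPGroup p V := IsPGroup.of_card hcV
  have hPB : IsPGroup p B := IsPGroup.of_card hcB
  obtain ⟨T, hT⟩ := (hPB.to_sup_of_normal_right hPV).exists_le_sylow
  have hVT : V ≤ (T : Subgroup X) := le_sup_right.trans hT
  refine ⟨T, ?_⟩
  rintro ⟨T', -, hctrl⟩
  set U := Cfsg.centerThompsonAOf (T : Subgroup X) with hU
  have hTU : (T : Subgroup X) ≤ Subgroup.normalizer (U : Set X) :=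
    Subgroup.le_normalizer.trans (ZJ.normalizer_le_normalizer_centerThompsonA _)
  have hVT' : V ≤ (T' : Subgroup X) := hPV.le_sylow_of_normal T'
  have hUn : U.Normal := by
    rw [← Subgroup.normalizer_eq_top_iff, eq_top_iff]
    intro g _
    obtain ⟨x, hx, hxe⟩ := (hctrl (V : Set X) hVT').2 g (by
      rintro _ ⟨a, ha, rfl⟩
      exact hVT' (Subgroup.Normal.conj_mem inferInstance a ha g))
    have h1 : x⁻¹ * g ∈ V := hfaith _ fun v hv => by
      have := hxe v hv
      calc x⁻¹ * g * v * (x⁻¹ * g)⁻¹ = x⁻¹ * (g * v * g⁻¹) * x := by simp [mul_assoc]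
        _ = v := by rw [this]; simp [mul_assoc]
    have := mul_mem hx (hTU (hVT h1))
    simpa using this
  have hUT : U ≤ (T : Subgroup X) := ZJ.centerThompsonAOf_le _
  have hUp : IsPGroup p U := T.2.to_le hUT
  have hUne : U ≠ ⊥ := by
    intro hbot
    have hTne : (T : Subgroup X) ≠ ⊥ := fun h => hBne (by
      intro b hb
      have := (le_sup_left.trans hT) hb
      rw [h, Subgroup.mem_bot] at this
      exact this ▸ one_mem _)
    haveI : Nontrivial (T : Subgroup X) := (Subgroup.nontrivial_iff_ne_bot _).2 hTne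
    haveI := T.2.center_nontrivial
    obtain ⟨⟨z, hz⟩, hz1⟩ := exists_ne (1 : Subgroup.center (T : Subgroup X))
    obtain ⟨A, hA⟩ := ZJ.maxAbIn_nonempty (T : Subgroup X)
    have hc : ∀ y ∈ (T : Subgroup X), y * (z : X) = (z : X) * y := fun y hy =>
      congrArg Subtype.val (Subgroup.mem_center_iff.1 hz ⟨y, hy⟩)
    have hzU : (z : X) ∈ U := ⟨ZJ.le_thompsonSubgroupAOf hA
      (ZJ.mem_of_maxAbIn hA z.2 fun a ha => hc a (hA.1 ha)),
      fun y hy => hc y (ZJ.thompsonSubgroupAOf_le _ hy)⟩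
    rw [hbot, Subgroup.mem_bot] at hzU
    exact hz1 (Subtype.ext (Subtype.ext hzU))
  -- a normal `p`-subgroup centralises `V`, hence lies in it
  haveI := hUn
  set P1 := U ⊔ V with hP1
  have hP1p : IsPGroup p P1 := hUp.to_sup_of_normal_right hPV
  haveI : P1.Normal := Subgroup.sup_normal U V
  set C := V ⊓ Subgroup.centralizer (P1 : Set X) with hC
  have hCne : C ≠ ⊥ := by
    haveI : (V.subgroupOf P1).Normal := inferInstance
    have hne : V.subgroupOf P1 ≠ ⊥ := by
      intro h
      rw [Subgroup.subgroupOf_eq_bot, disjoint_iff, inf_of_le_left le_sup_right] at h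
      rw [h, Subgroup.card_bot] at hcV
      exact (Nat.one_lt_pow two_ne_zero (Fact.out : p.Prime).one_lt).ne hcV
    intro hCbot
    refine PGroups.normal_inf_center_ne_bot hP1p (V.subgroupOf P1) hne ?_
    rw [eq_bot_iff]
    rintro ⟨y, hy⟩ ⟨hyV, hyc⟩
    have : y ∈ C := ⟨hyV, fun z hz => congrArg Subtype.val (Subgroup.mem_center_iff.1 hyc ⟨z, hz⟩)⟩
    rw [hCbot, Subgroup.mem_bot] at this
    exact Subtype.ext this
  have hVC := hirr C inferInstance inf_le_left hCne
  have hUV : U ≤ V := fun u hu => hfaith u fun v hv => by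
    rw [mul_inv_eq_iff_eq_mul]
    exact (hVC hv).2 u (le_sup_left (a := U) hu)
  have hVU := hirr U hUn hUV hUne
  -- so every member of `maxAbIn T` lies in `V`
  have hJ : ∀ A ∈ ZJ.maxAbIn (T : Subgroup X), A ≤ V := fun A hA a ha => hfaith a fun v hv => by
    rw [mul_inv_eq_iff_eq_mul]
    exact (ZJ.centerA_comm (hVU hv) (ZJ.le_thompsonSubgroupAOf hA ha))
  obtain ⟨A, hA⟩ := ZJ.maxAbIn_nonempty (T : Subgroup X)
  refine hBne (hJ B ⟨le_sup_left.trans hT, hBc, fun D hD hDc => ?_⟩)
  calc Nat.card D ≤ Nat.card A := hA.2.2 D hD hDc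
    _ ≤ Nat.card V := Nat.le_of_dvd Nat.card_pos (Subgroup.card_dvd_of_le (hJ A hA))
    _ = Nat.card B := hcV.trans hcB.symm

end Cfsg.Agent.Lib.Quadratic
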